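import Groth.Agent.Amp73.Gen
import Mathlib.AlgebraicGeometry.AffineScheme

/-!
Changing the section with respect to which ratios are formed
-/

set_option autoImplicit false
set_option linter.style.haveILetI false
set_option backward.isDefEq.respectTransparency.types false

universe u

noncomputable section

open CategoryTheory CategoryTheory.Limits AlgebraicGeometry TopologicalSpace Opposite
open Groth.Agent.Var76.LineBundle Groth.Agent.Var76.ZeroScheme Groth.Agent.Amp73

namespace Groth.Agent.Curves2.RelVA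

variable {X : Scheme.{u}} {L : X.Modules}

theorem isFrame_res_genLocus (t : Γ(L, ⊤)) :
    IsFrame L (CohB1.genLocus L (Var76.Frames.ofSection L t))
      (res L (le_top : CohB1.genLocus L (Var76.Frames.ofSection L t) ≤ ⊤) t) := by
  rw [← Var76.Frames.val_ofSection]
  exact isFrame_genLocus _

theorem exists_ratio (t w : Γ(L, ⊤)) {G : X.Opens} (hG : G ≤ CohB1.genLocus L (Var76.Frames.ofSection L t)) :
    ∃ a : Γ(X, G), a • res L (le_top : G ≤ ⊤) t = res L (le_top : G ≤ ⊤) w := by
  obtain ⟨a, ha⟩ := (isFrame_res_genLocus t G hG).2 (res L (le_top : G ≤ ⊤) w)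
  dsimp only at ha
  rw [res_res] at ha
  exact ⟨a, ha⟩

theorem ratio_unique (t : Γ(L, ⊤)) {G : X.Opens} (hG : G ≤ CohB1.genLocus L (Var76.Frames.ofSection L t))
    (a b : Γ(X, G)) (h : a • res L (le_top : G ≤ ⊤) t = b • res L (le_top : G ≤ ⊤) t) : a = b := by
  refine (isFrame_res_genLocus t G hG).1 ?_
  dsimp only
  rwa [res_res]

theorem basicOpen_ratio (t w : Γ(L, ⊤)) {G : X.Opens} (hG : G = CohB1.genLocus L (Var76.Frames.ofSection L t))
    (a : Γ(X, G)) (ha : a • res L (le_top : G ≤ ⊤) t = res L (le_top : G ≤ ⊤) w) :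
    X.basicOpen a = G ⊓ CohB1.genLocus L (Var76.Frames.ofSection L w) := by
  subst hG
  rw [inf_comm, genLocus_inf_eq_basicOpen (Var76.Frames.ofSection L w) (isFrame_res_genLocus t)]
  rw [ha, Var76.Frames.val_ofSection]

/-- If functions generate on `G` with respect to `t`, then with one inverse they generate on `G ⊓ G'`. -/
theorem closure_eq_top_inf {A : Type u} [CommRing A] (cst : ∀ U : X.Opens, A →+* Γ(X, U))
    (hcst : ∀ {U V : X.Opens} (h : V ≤ U) (a : A), fres h (cst U a) = cst V a)
    (t w : Γ(L, ⊤)) {G G' : X.Opens} (hG : G = CohB1.genLocus L (Var76.Frames.ofSection L t))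
    (hG' : G' = CohB1.genLocus L (Var76.Frames.ofSection L w)) (haff : IsAffineOpen G)
    (hcl : Subring.closure (Set.range (cst G) ∪
      {a | ∃ v : Γ(L, ⊤), a • res L (le_top : G ≤ ⊤) t = res L (le_top : G ≤ ⊤) v}) = ⊤)
    (gens : Set Γ(X, G')) (hg : ∀ a : A, cst G' a ∈ Subring.closure gens)
    (hr : ∀ (v : Γ(L, ⊤)) (b : Γ(X, G')), b • res L (le_top : G' ≤ ⊤) w = res L (le_top : G' ≤ ⊤) v →
      b ∈ Subring.closure gens)
    (c : Γ(X, G')) (hc : c • res L (le_top : G' ≤ ⊤) w = res L (le_top : G' ≤ ⊤) t) :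
    IsAffineOpen (X.basicOpen c) ∧ Subring.closure (fres (X.basicOpen_le c) '' gens ∪
      {d | d * fres (X.basicOpen_le c) c = 1}) = ⊤ := by
  obtain ⟨a, ha⟩ := exists_ratio t w hG.le
  have hB : X.basicOpen a = X.basicOpen c := by
    rw [basicOpen_ratio t w hG a ha, basicOpen_ratio w t hG' c hc, ← hG, ← hG']
    exact inf_comm _ _
  refine ⟨hB ▸ haff.basicOpen a, ?_⟩
  have hle : X.basicOpen c ≤ G := hB.ge.trans (X.basicOpen_le a)
  let B := X.basicOpen c
  let S' : Subring Γ(X, B) := Subring.closure (fres (X.basicOpen_le c) '' gens ∪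
    {d | d * fres (X.basicOpen_le c) c = 1})
  have hac : fres hle a * fres (X.basicOpen_le c) c = 1 := by
    refine ratio_unique w ((X.basicOpen_le c).trans hG'.le) _ _ ?_
    have h1 := congrArg (res L hle) ha
    rw [res_smul, res_res, res_res] at h1
    have h2 := congrArg (res L (X.basicOpen_le c)) hc
    rw [res_smul, res_res, res_res] at h2
    rw [mul_smul, one_smul, fres, fres, h2, h1]
  have hinv : fres hle a ∈ S' := Subring.subset_closure (Or.inr hac)
  have himg : ∀ b ∈ Subring.closure gens, fres (X.basicOpen_le c) b ∈ S' := fun b hb => by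
    have h : (Subring.closure gens).map (X.presheaf.map (homOfLE (X.basicOpen_le c)).op).hom ≤ S' := by
      rw [RingHom.map_closure]
      exact Subring.closure_mono Set.subset_union_left
    exact h ⟨b, hb, rfl⟩
  have hmap : ∀ y : Γ(X, G), fres hle y ∈ S' := fun y => by
    have h : (Subring.closure (Set.range (cst G) ∪
        {a | ∃ v : Γ(L, ⊤), a • res L (le_top : G ≤ ⊤) t = res L (le_top : G ≤ ⊤) v})).map
          (X.presheaf.map (homOfLE hle).op).hom ≤ S' := by
      rw [RingHom.map_closure, Subring.closure_le]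
      rintro _ ⟨b, (⟨r, rfl⟩ | ⟨v, hv⟩), rfl⟩
      · show fres hle (cst G r) ∈ S'
        rw [hcst hle, ← hcst (X.basicOpen_le c)]
        exact himg _ (hg r)
      · obtain ⟨b', hb'⟩ := exists_ratio w v hG'.le
        have e : fres hle b = fres (X.basicOpen_le c) b' * fres hle a := by
          refine ratio_unique t (hle.trans hG.le) _ _ ?_
          have h1 := congrArg (res L hle) ha
          rw [res_smul, res_res, res_res] at h1
          have h2 := congrArg (res L hle) hv
          rw [res_smul, res_res, res_res] at h2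
          have h3 := congrArg (res L (X.basicOpen_le c)) hb'
          rw [res_smul, res_res, res_res] at h3
          rw [mul_smul, fres, fres, fres, h1, h2, h3]
        show fres hle b ∈ S'
        rw [e]
        exact Subring.mul_mem _ (himg _ (hr v b' hb')) hinv
    exact h ⟨y, hcl.ge (Subring.mem_top y), rfl⟩
  have hcS : fres (X.basicOpen_le c) c ∈ S' := himg c (hr t c hc)
  refine eq_top_iff.2 fun x _ => ?_
  letI : Algebra Γ(X, G) Γ(X, B) := (X.presheaf.map (homOfLE hle).op).hom.toAlgebra
  haveI : IsLocalization.Away a Γ(X, B) := haff.isLocalization_of_eq_basicOpen a (homOfLE hle) hB.symm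
  obtain ⟨N, y, hy⟩ := IsLocalization.Away.surj a x
  have e : x = fres hle y * fres (X.basicOpen_le c) c ^ N := by
    show x = algebraMap Γ(X, G) Γ(X, B) y * _
    rw [← hy, mul_assoc]
    show x = x * (fres hle a ^ N * _)
    rw [← mul_pow, hac, one_pow, mul_one]
  rw [e]
  exact Subring.mul_mem _ (hmap y) (Subring.pow_mem _ hcS N)

end Groth.Agent.Curves2.RelVA
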