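import Groth.Agent.S2803

/-!
Proper morphisms over a base which are immersions on all fibres
-/

set_option autoImplicit false

universe u

noncomputable section

open CategoryTheory CategoryTheory.Limits AlgebraicGeometry

namespace Groth.Agent.Curves2.RelVA

/-- A proper morphism over a base that is an immersion on every fibre is a closed immersion. -/
theorem isClosedImmersion_of_fibres {X P S : Scheme.{u}} (i : X ⟶ P) [IsProper i] (π : P ⟶ S) (f : X ⟶ S)
    (hf : i ≫ π = f)
    (h : ∀ (s : S) (m : f.fiber s ⟶ pullback π (S.fromSpecResidueField s)),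
      m ≫ pullback.fst _ _ = f.fiberι s ≫ i → m ≫ pullback.snd _ _ = f.fiberToSpecResidueField s →
      IsImmersion m) : IsClosedImmersion i := by
  subst hf
  have key : ∀ y : P, ∃ U : P.Opens, y ∈ U ∧ IsClosedImmersion (i ∣_ U) := fun y => by
    refine (S2803.result i y).2 ⟨?_, ⟨⊤, trivial, inferInstance⟩⟩
    rcases isEmpty_or_nonempty ↥(i.fiber y) with he | hne
    · exact Or.inl he
    refine Or.inr ?_
    let s := π y
    let g := S.fromSpecResidueField s
    let pr₁ := pullback.fst π g
    let pr₂ := pullback.snd π g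
    let m : (i ≫ π).fiber s ⟶ pullback π g := pullback.lift ((i ≫ π).fiberι s ≫ i)
      ((i ≫ π).fiberToSpecResidueField s) (by rw [Category.assoc]; exact (i ≫ π).fiber_fac s)
    have hm1 : m ≫ pr₁ = (i ≫ π).fiberι s ≫ i := pullback.lift_fst _ _ _
    have hm2 : m ≫ pr₂ = (i ≫ π).fiberToSpecResidueField s := pullback.lift_snd _ _ _
    have hm : IsImmersion m := h s m hm1 hm2
    have hX : IsPullback ((i ≫ π).fiberι s) (m ≫ pr₂) (i ≫ π) g := hm2 ▸ IsPullback.of_hasPullback _ _
    have hleft : IsPullback ((i ≫ π).fiberι s) m i pr₁ :=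
      IsPullback.of_bot hX hm1.symm (IsPullback.of_hasPullback _ _)
    let q₀ : Spec (P.residueField y) ⟶ pullback π g := pullback.lift (P.fromSpecResidueField y)
      (Spec.map (π.residueFieldMap y)) (π.SpecMap_residueFieldMap_fromSpecResidueField y).symm
    have hq : q₀ ≫ pr₁ = P.fromSpecResidueField y := pullback.lift_fst _ _ _
    have hF : IsPullback (i.fiberι y) (i.fiberToSpecResidueField y) i (q₀ ≫ pr₁) :=
      hq ▸ IsPullback.of_hasPullback _ _
    haveI : IsImmersion (i.fiberToSpecResidueField y) :=
      MorphismProperty.of_isPullback (P := @IsImmersion) (IsPullback.of_right' hF hleft) hm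
    haveI : Surjective (i.fiberToSpecResidueField y) :=
      ⟨fun z => ⟨Classical.arbitrary _, @Subsingleton.elim _ (inferInstanceAs (Subsingleton (PrimeSpectrum _))) _ _⟩⟩
    haveI : IsClosedImmersion (i.fiberToSpecResidueField y) := by
      refine IsClosedImmersion.of_isPreimmersion _ ?_
      rw [Set.range_eq_univ.2 (i.fiberToSpecResidueField y).surjective]
      exact isClosed_univ
    exact isIso_of_isClosedImmersion_of_surjective _
  choose U hy hU using key
  exact IsZariskiLocalAtTarget.of_iSup_eq_top U (top_le_iff.1 fun y _ => TopologicalSpace.Opens.mem_iSup.2 ⟨y, hy y⟩) hU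

end Groth.Agent.Curves2.RelVA
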