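import Groth.Agent.Curves2.RelVA.Generators
import Groth.Agent.Curves2.RelVA.FibreClosed
import Groth.Agent.Curves2.RelVA.Charts
import Groth.Agent.EGA73.ImmersionPn2
import Groth.Agent.EGA73.AmpleImmersion

/-!
Very ampleness over an affine base from the fibres
-/

set_option autoImplicit false
set_option linter.style.haveILetI false
set_option maxSynthPendingDepth 6
set_option backward.isDefEq.respectTransparency.types false

universe u

noncomputable section

open CategoryTheory CategoryTheory.Limits AlgebraicGeometry TopologicalSpace Opposite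
open HomogeneousLocalization
open Groth.Agent.Var76.LineBundle Groth.Agent.Var76.ZeroScheme Groth.Agent.Amp73

namespace Groth.Agent.Curves2.RelVA

variable {X S : Scheme.{u}} (f : X ⟶ S)

/-- A global section restricted to a fibre. -/
def pull (L : X.Modules) (s : S) (m : Γ(L, ⊤)) : Γ(CohIII.fiberMod f L s, ⊤) :=
  pullS (f.fiberι s) L ⊤ m

theorem toFibre_eq (L : X.Modules) (s : S) (m : Γ(L, ⊤)) :
    toFibre f L (s := s) (V := ⊤) trivial m = pull f L s m :=
  Amp73.res_self _ _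

theorem isUnit_of_sum_eq_one {R : Type*} [CommRing R] [IsLocalRing R] {ι : Type*} (T : Finset ι) (g : ι → R)
    (h : IsUnit (∑ i ∈ T, g i)) : ∃ i ∈ T, IsUnit (g i) := by
  classical
  induction T using Finset.induction with
  | empty => simp at h
  | insert a T ha ih =>
    rw [Finset.sum_insert ha] at h
    rcases IsLocalRing.isUnit_or_isUnit_of_isUnit_add h with h' | h'
    · exact ⟨a, Finset.mem_insert_self a T, h'⟩
    · obtain ⟨i, hi, h''⟩ := ih h'
      exact ⟨i, Finset.mem_insert_of_mem hi, h''⟩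

theorem genLocus_toFibre {L : X.Modules} (hL : PicF.IsInvertible L) (s : S) (m : Γ(L, ⊤)) :
    CohB1.genLocus _ (Var76.Frames.ofSection _ (pull f L s m)) =
      f.fiberι s ⁻¹ᵁ CohB1.genLocus L (Var76.Frames.ofSection L m) := by
  rw [← genLocus_pullHom (f.fiberι s) hL]
  have h : pull f L s m = val _ (pullHom (f.fiberι s) (Var76.Frames.ofSection L m)) ⊤ := by
    refine Eq.trans ?_ (val_pullHom (f.fiberι s) (Var76.Frames.ofSection L m) ⊤).symm
    rw [Var76.Frames.val_ofSection]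
    exact congrArg _ (Amp73.res_self _ _).symm
  rw [h]
  exact EGA73.AmpleImmersion.genLocus_ofSection_val _

/-- The coordinates of a ratio on a fibre. -/
theorem ratio_pullS {L : X.Modules} (s : S) (t w : Γ(L, ⊤)) {G : X.Opens} (b : Γ(X, G))
    (hb : b • res L (le_top : G ≤ ⊤) t = res L (le_top : G ≤ ⊤) w) :
    (f.fiberι s).app G b • res _ (le_top : f.fiberι s ⁻¹ᵁ G ≤ ⊤) (pull f L s t) =
      res _ (le_top : f.fiberι s ⁻¹ᵁ G ≤ ⊤) (pull f L s w) := by
  have e : ∀ m : Γ(L, ⊤), res _ (le_top : f.fiberι s ⁻¹ᵁ G ≤ ⊤) (pull f L s m) =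
      pullS (f.fiberι s) L G (res L le_top m) := fun m => res_pullS (f.fiberι s) L le_top m
  rw [e, e, ← pullS_smul, hb]

/-- On an affine base, fibrewise very ampleness without first cohomology gives very ampleness. -/
theorem isRelVeryAmplePn_of_fibres [IsAffine S] [IsProper f] [LocallyOfFinitePresentation f] [Flat f]
    (L : X.Modules) (hL : PicF.IsInvertible L) (h1 : ∀ s : S, Subsingleton (CohIII.fiberH f L s 1))
    (hfib : ∀ (s : S) (z : f.fiber s), ∃ (t : Γ(CohIII.fiberMod f L s, ⊤)) (G : (f.fiber s).Opens),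
      G = CohB1.genLocus _ (Var76.Frames.ofSection _ t) ∧ z ∈ G ∧ IsAffineOpen G ∧
        Subring.closure (Set.range ((f.fiberToSpecResidueField s).appLE ⊤ G le_top) ∪
          {a | ∃ v : Γ(CohIII.fiberMod f L s, ⊤),
            a • res _ (le_top : G ≤ ⊤) t = res _ (le_top : G ≤ ⊤) v}) = ⊤) :
    RelAmple.IsRelVeryAmplePn f L := by
  classical
  obtain ⟨n, u₀, hu⟩ := exists_generators f L hL h1
  let u : Fin (n + 1) → Γ(L, ⊤) := u₀
  have comb : ∀ (s : S) (t : Γ(CohIII.fiberMod f L s, ⊤)),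
      ∃ c : Fin (n + 1) → Γ(Spec (S.residueField s), ⊤), t = ∑ j,
        (f.fiberToSpecResidueField s).appLE ⊤ ⊤ le_top (c j) • pull f L s (u j) := fun s t => by
    obtain ⟨c, hc⟩ := exists_combination f L hL u₀ hu s (h1 s) t
    refine ⟨c, hc.trans (Finset.sum_congr rfl fun j _ => ?_)⟩
    exact congrArg _ (toFibre_eq f L s (u j))
  have coeffs : ∀ (s : S) (t : Γ(CohIII.fiberMod f L s, ⊤)) (G : (f.fiber s).Opens)
      (a : Fin (n + 1) → Γ(f.fiber s, G)) (e : Γ(CohIII.fiberMod f L s, G)),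
      (∀ j, a j • e = res _ (le_top : G ≤ ⊤) (pull f L s (u j))) →
      ∃ c : Fin (n + 1) → Γ(Spec (S.residueField s), ⊤),
        (∑ j, (f.fiberToSpecResidueField s).appLE ⊤ G le_top (c j) * a j) • e =
          res _ (le_top : G ≤ ⊤) t := fun s t G a e ha => by
    obtain ⟨c, hc⟩ := comb s t
    refine ⟨c, ?_⟩
    rw [hc, Finset.sum_smul]
    refine Eq.trans (Finset.sum_congr rfl fun j _ => ?_)
      (map_sum ((CohIII.fiberMod f L s).presheaf.map (homOfLE (le_top : G ≤ ⊤)).op).hom _ _).symm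
    rw [mul_smul, ha]
    refine Eq.trans ?_ (res_smul _ _ _ _).symm
    refine congrArg (· • _) ?_
    exact ((ConcreteCategory.congr_hom (Scheme.Hom.appLE_map (f.fiberToSpecResidueField s)
      (U := ⊤) (V := ⊤) le_top (homOfLE (le_top : G ≤ ⊤)).op) (c j))).symm
  have hcov : ∀ (s : S) (z : f.fiber s), ∃ j, f.fiberι s z ∈ CohB1.genLocus L (Var76.Frames.ofSection L (u j)) := by
    intro s z
    obtain ⟨t, G, hG, hz, -, -⟩ := hfib s z
    choose a ha using fun j => exists_ratio t (pull f L s (u j)) hG.le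
    obtain ⟨c, hc⟩ := coeffs s t G a _ ha
    have hone : ∑ j, (f.fiberToSpecResidueField s).appLE ⊤ G le_top (c j) * a j = 1 :=
      ratio_unique t hG.le _ _ (by rw [hc, one_smul])
    have h2 := congrArg ((f.fiber s).presheaf.germ G z hz) hone
    rw [map_sum, map_one] at h2
    obtain ⟨j, -, hj⟩ := isUnit_of_sum_eq_one _ _ (h2 ▸ isUnit_one)
    refine ⟨j, ?_⟩
    show z ∈ f.fiberι s ⁻¹ᵁ CohB1.genLocus L (Var76.Frames.ofSection L (u j))
    rw [← genLocus_toFibre f hL]
    have hj' : z ∈ (f.fiber s).basicOpen (a j) := by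
      rw [Scheme.mem_basicOpen _ _ z hz]
      rw [map_mul] at hj
      exact (IsUnit.mul_iff.1 hj).2
    rw [basicOpen_ratio t _ hG (a j) (ha j)] at hj'
    exact hj'.2
  let Z := ULift.{u} ℤ
  let q : X ⟶ Spec (CommRingCat.of Z) := specULiftZIsTerminal.from X
  let v : (Fin (n + 1) → Z) →+ ProjUP.Γm L :=
    AddMonoidHom.mk' (fun c => ∑ k, ProjUP.toGlobal q (c k) • (u k : ProjUP.Γm L))
      fun a b => by simp [add_smul, Finset.sum_add_distrib]
  have hv1 : ∀ k, v (Pi.single k 1) = u k := fun k => by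
    show ∑ i, ProjUP.toGlobal q ((Pi.single k 1 : Fin (n + 1) → Z) i) • (u i : ProjUP.Γm L) = u k
    rw [Finset.sum_eq_single k (fun i _ hi => by simp [Pi.single_eq_of_ne hi]) (by simp)]
    simp
  have hgen : ProjUP.GeneratedBy L v := EGA73.ImmersionPn.generatedBy_of_genLocus L v fun x => by
    obtain ⟨z, hz⟩ : ∃ z, f.fiberι (f x) z = x :=
      (f.range_fiberι (f x)).ge (show x ∈ f ⁻¹' {f x} from rfl)
    obtain ⟨j, hj⟩ := hcov (f x) z
    refine ⟨Pi.single j 1, ?_⟩
    rwa [hv1, ← hz]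
  let 𝒬p := CohB1.polyGrading n Z
  obtain ⟨r, -, τ, hτ⟩ := EGA73.ProjUniv.exists_to_proj (𝒮 := 𝒬p) q (EGA73.PolySym.linForm_mem n Z)
    (EGA73.PolySym.isSymmetricAlgebra_linForm n Z) L hL v
    (fun a c => by
      show ∑ k, ProjUP.toGlobal q (a * c k) • (u k : ProjUP.Γm L) =
        ProjUP.toGlobal q a • ∑ k, ProjUP.toGlobal q (c k) • (u k : ProjUP.Γm L)
      simp only [Finset.smul_sum, smul_smul, map_mul]) hgen
  let Xk : Fin (n + 1) → 𝒬p 1 := fun k => ⟨MvPolynomial.X k, MvPolynomial.isHomogeneous_X Z k⟩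
  let T1 := Twist.twist 𝒬p 1
  let P1 := (Scheme.Modules.pullback r).obj T1
  have hτ' : ∀ k, τ.hom.app ⊤ (pullS r T1 ⊤ (Var76.ProjFrame.sect 𝒬p (Xk k))) = u k := fun k => by
    have h1 := hτ (Pi.single k 1)
    rw [hv1] at h1
    refine Eq.trans ?_ h1
    refine congrArg (fun s => τ.hom.app ⊤ (ProjUP.pullSec r T1 (Twist.globalOf 𝒬p s))) (Subtype.ext ?_)
    exact (EGA73.PolySym.linForm_single n Z k).symm
  let D : Fin (n + 1) → (Proj 𝒬p).Opens := fun j => Proj.basicOpen 𝒬p (MvPolynomial.X j)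
  have hirr : (HomogeneousIdeal.irrelevant 𝒬p).toIdeal = Ideal.span (𝒬p 1 : Set (MvPolynomial (Fin (n + 1)) Z)) :=
    EGA73.ProjUniv.irrelevant_eq_span_one (EGA73.PolySym.linForm_mem n Z) (EGA73.PolySym.isSymmetricAlgebra_linForm n Z)
  let Gj : Fin (n + 1) → X.Opens := fun j => CohB1.genLocus L (Var76.Frames.ofSection L (u j))
  have hG : ∀ j, r ⁻¹ᵁ D j = Gj j := fun j => by
    have e1 : CohB1.genLocus _ (pullHom r (degOneHom 𝒬p (Xk j))) = r ⁻¹ᵁ D j := by
      rw [genLocus_pullHom r (EGA73.isInvertible_twist hirr 1), genLocus_degOneHom hirr]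
    rw [← e1, ← genLocus_comp_iso _ τ.hom]
    have e2 : ∀ W : X.Opens, val L (pullHom r (degOneHom 𝒬p (Xk j)) ≫ τ.hom) W =
          val L (Var76.Frames.ofSection L (u j)) W := fun W => by
        have h3 : val L (pullHom r (degOneHom 𝒬p (Xk j)) ≫ τ.hom) ⊤ = u j := by
          show τ.hom.app ⊤ (val P1 (pullHom r (degOneHom 𝒬p (Xk j))) ⊤) = u j
          refine Eq.trans ?_ (hτ' _)
          refine congrArg (τ.hom.app ⊤) ((val_pullHom r _ ⊤).trans (congrArg (pullS r T1 ⊤) ?_))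
          exact (Var76.Frames.val_ofSection _ _ ⊤).trans (Amp73.res_self _ _)
        rw [← res_val L _ (le_top : W ≤ ⊤), h3, Var76.Frames.val_ofSection]
    refine le_antisymm ?_ ?_
    all_goals rw [← isFrame_iff_le_genLocus]
    · rw [← e2]
      exact (isFrame_iff_le_genLocus _ _).2 le_rfl
    · rw [e2]
      exact (isFrame_iff_le_genLocus _ _).2 le_rfl
  have hratio : ∀ (j j' : Fin (n + 1)) (hle : Gj j ≤ r ⁻¹ᵁ D j) (a : Γ(X, Gj j)),
      a • res L (le_top : Gj j ≤ ⊤) (u j) = res L (le_top : Gj j ≤ ⊤) (u j') →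
        a ∈ (r.appLE (D j) (Gj j) hle).hom.range := by
    intro j j' hle a ha
    refine ⟨Proj.awayToSection 𝒬p _ (HomogeneousLocalization.mk
      ⟨1, Xk j', Xk j, ⟨1, pow_one _⟩⟩), ?_⟩
    refine ratio_unique (u j) le_rfl _ _ ?_
    rw [ha]
    have h1 := congrArg (fun s => τ.hom.app (Gj j) (res P1 hle (pullS r T1 (D j) s)))
      (Var76.ProjFrame.away_smul_frame 𝒬p (Xk j) (Xk j'))
    have hres : ∀ k, τ.hom.app (Gj j) (res P1 hle (pullS r T1 (D j) (res T1 le_top (Var76.ProjFrame.sect 𝒬p (Xk k))))) =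
        res L le_top (u k) := fun k => by
      rw [← res_pullS, res_res, Mero90.app_res]
      exact congrArg (res L le_top) (hτ' k)
    simp only [pullS_smul, res_smul, Scheme.Modules.Hom.app_smul] at h1
    rw [hres, hres] at h1
    exact h1
  let tS := CohB1.ProjSpace.toSpec n Z
  let i : X ⟶ CohB1.ProjSpaceOver n S := pullback.lift r f (specULiftZIsTerminal.hom_ext _ _)
  have hifst : i ≫ pullback.fst tS (specULiftZIsTerminal.from S) = r := pullback.lift_fst _ _ _
  have hisnd : i ≫ pullback.snd tS (specULiftZIsTerminal.from S) = f := pullback.lift_snd _ _ _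
  let π : CohB1.ProjSpaceOver n S ⟶ S := pullback.snd tS (specULiftZIsTerminal.from S)
  haveI : IsSeparated π := by
    haveI : IsSeparated tS := by
      have := Proj.isSeparated (CohB1.polyGrading n Z)
      exact @MorphismProperty.comp_mem _ _ @IsSeparated _ _ _ _ (Proj.toSpecZero (CohB1.polyGrading n Z)) _ this
        (inferInstanceAs (IsSeparated (Spec.map (CommRingCat.ofHom (algebraMap Z (CohB1.polyGrading n Z 0))))))
    exact MorphismProperty.pullback_snd _ _ inferInstance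
  haveI : IsProper (i ≫ π) := by rw [hisnd]; infer_instance
  haveI : IsProper i := IsProper.of_comp i π
  have hclosed : IsClosedImmersion i := isClosedImmersion_of_fibres i π f hisnd fun s m hm1 hm2 => by
    refine EGA73.BundleImmersion.isImmersion_of_charts m fun z => ?_
    obtain ⟨t, G, hGe, hz, haff, hcl⟩ := hfib s z
    let ι := f.fiberι s
    let f' := f.fiberToSpecResidueField s
    let u' : Fin (n + 1) → Γ(CohIII.fiberMod f L s, ⊤) := fun k => pull f L s (u k)
    choose a ha using fun j => exists_ratio t (u' j) hGe.le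
    obtain ⟨d, hd⟩ := coeffs s t G a _ ha
    have hone : ∑ j, f'.appLE ⊤ G le_top (d j) * a j = 1 := ratio_unique t hGe.le _ _ (by rw [hd, one_smul])
    have h2 := congrArg ((f.fiber s).presheaf.germ G z hz) hone
    rw [map_sum, map_one] at h2
    obtain ⟨j, -, hj⟩ := isUnit_of_sum_eq_one _ _ (h2 ▸ isUnit_one)
    have hzj : z ∈ (f.fiber s).basicOpen (a j) := by
      rw [Scheme.mem_basicOpen _ _ z hz]
      rw [map_mul] at hj
      exact (IsUnit.mul_iff.1 hj).2
    rw [basicOpen_ratio t _ hGe (a j) (ha j)] at hzj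
    let G' : (f.fiber s).Opens := ι ⁻¹ᵁ Gj j
    have hG' : G' = CohB1.genLocus _ (Var76.Frames.ofSection _ (u' j)) := (genLocus_toFibre f hL s (u j)).symm
    choose b hb using fun k => exists_ratio (u' j) (u' k) hG'.le
    let gens : Set Γ(f.fiber s, G') := Set.range (f'.appLE ⊤ G' le_top) ∪ Set.range b
    have hrall : ∀ (w : Γ(CohIII.fiberMod f L s, ⊤)) (x : Γ(f.fiber s, G')),
        x • res _ (le_top : G' ≤ ⊤) (u' j) = res _ (le_top : G' ≤ ⊤) w → x ∈ Subring.closure gens := by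
      intro w x hx
      obtain ⟨e, he⟩ := coeffs s w G' b _ hb
      rw [ratio_unique (u' j) hG'.le x _ (hx.trans he.symm)]
      exact Subring.sum_mem _ fun k _ => Subring.mul_mem _ (Subring.subset_closure (Or.inl ⟨_, rfl⟩))
        (Subring.subset_closure (Or.inr ⟨k, rfl⟩))
    obtain ⟨c, hc⟩ := exists_ratio (u' j) t hG'.le
    obtain ⟨hba, hclB⟩ := closure_eq_top_inf
      (cst := fun U => (f'.appLE ⊤ U le_top).hom)
      (fun h x => ConcreteCategory.congr_hom (Scheme.Hom.appLE_map f' le_top (homOfLE h).op) x)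
      t (u' j) hGe hG' haff hcl gens (fun x => Subring.subset_closure (Or.inl ⟨x, rfl⟩)) hrall c hc
    have hzB : z ∈ (f.fiber s).basicOpen c := by
      rw [basicOpen_ratio (u' j) t hG' c hc]
      exact ⟨hG'.ge hzj.2, hGe.le hzj.1⟩
    let O₀ : (CohB1.ProjSpaceOver n S).Opens :=
      pullback.fst tS (specULiftZIsTerminal.from S) ⁻¹ᵁ D j ⊓ π ⁻¹ᵁ ⊤
    have hO₀ : IsAffineOpen O₀ :=
      isAffineOpen_inf_preimage _ _ (Proj.isAffineOpen_basicOpen _ _ (Xk _).2 one_pos) (isAffineOpen_top _)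
        (isAffineOpen_top _) le_top le_top
    let pr₁ := pullback.fst π (S.fromSpecResidueField s)
    let pr₂ := pullback.snd π (S.fromSpecResidueField s)
    let O : (pullback π (S.fromSpecResidueField s)).Opens := pr₁ ⁻¹ᵁ O₀ ⊓ pr₂ ⁻¹ᵁ ⊤
    have hO : IsAffineOpen O :=
      isAffineOpen_inf_preimage _ _ hO₀ (isAffineOpen_top _) (isAffineOpen_top _) le_top le_top
    have hiO : i ⁻¹ᵁ O₀ = Gj j := by
      show i ⁻¹ᵁ (_ ⊓ _) = _
      rw [Scheme.Hom.preimage_inf, ← Scheme.Hom.comp_preimage, hifst]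
      exact (congrArg (· ⊓ _) (hG j)).trans (inf_eq_left.2 le_top)
    have hpre : m ⁻¹ᵁ O = G' := by
      show m ⁻¹ᵁ (_ ⊓ _) = _
      rw [Scheme.Hom.preimage_inf]
      have e : m ⁻¹ᵁ (pr₁ ⁻¹ᵁ O₀) = ι ⁻¹ᵁ (i ⁻¹ᵁ O₀) :=
        (Scheme.Hom.comp_preimage m pr₁ O₀).symm.trans
          ((congrArg (fun φ : f.fiber s ⟶ CohB1.ProjSpaceOver n S => φ ⁻¹ᵁ O₀) hm1).trans (Scheme.Hom.comp_preimage ι i O₀))
      exact (congrArg (· ⊓ _) (e.trans (congrArg (ι ⁻¹ᵁ ·) hiO))).trans (inf_eq_left.2 le_top)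
    have hD : G' ≤ m ⁻¹ᵁ O := hpre.ge
    have hcongr : ∀ {A B : Scheme.{u}} (φ φ' : A ⟶ B) (_ : φ = φ') (U : B.Opens) (W : A.Opens) (e : W ≤ φ ⁻¹ᵁ U)
        (e' : W ≤ φ' ⁻¹ᵁ U) (x : Γ(B, U)), φ.appLE U W e x = φ'.appLE U W e' x := by
      rintro A B φ _ rfl U W e e' x
      rfl
    have hgens : ∀ x ∈ gens, x ∈ (m.appLE O G' hD).hom.range := by
      rintro x (⟨y, rfl⟩ | ⟨k, rfl⟩)
      · refine ⟨pr₂.appLE ⊤ O inf_le_right y, ?_⟩
        refine (ConcreteCategory.congr_hom (Scheme.Hom.appLE_comp_appLE m _ ⊤ O _ inf_le_right hD) y).trans ?_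
        exact hcongr _ _ hm2 ⊤ _ _ _ y
      · obtain ⟨b₀, hb₀⟩ := exists_ratio (u j) (u k) (le_refl (Gj j))
        have hbk : b k = ι.app (Gj j) b₀ :=
          ratio_unique (u' j) hG'.le _ _ ((hb k).trans (ratio_pullS f s (u j) (u k) b₀ hb₀).symm)
        obtain ⟨y, hy⟩ := hratio j k (hG j).ge b₀ hb₀
        refine ⟨pr₁.appLE O₀ O inf_le_left
          ((pullback.fst tS (specULiftZIsTerminal.from S)).appLE (D j) O₀ inf_le_left y), ?_⟩
        refine (ConcreteCategory.congr_hom (Scheme.Hom.appLE_comp_appLE m _ O₀ O _ inf_le_left hD) _).trans ?_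
        refine (hcongr _ _ hm1 O₀ _ _ (by rw [Scheme.Hom.comp_preimage, hiO]) _).trans ?_
        refine (ConcreteCategory.congr_hom (Scheme.Hom.appLE_comp_appLE ι i O₀ (Gj j) G' hiO.ge le_rfl) _).symm.trans ?_
        rw [hbk, Scheme.Hom.app_eq_appLE]
        refine congrArg (ι.appLE (Gj j) G' le_rfl) ?_
        refine (ConcreteCategory.congr_hom (Scheme.Hom.appLE_comp_appLE i _ (D j) O₀ _ inf_le_left hiO.ge) y).trans ?_
        exact (hcongr _ _ hifst (D j) _ _ (hG j).ge y).trans hy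
    exact EGA73.ImmersionPn2.exists_chart_of_range m hO hpre hD c
      (Subring.closure_le.2 hgens (hrall t c hc)) hzB hba gens hgens hclB
  refine ⟨n, i, inferInstance, hisnd, ⟨?_⟩⟩
  exact τ.symm ≪≫ (Scheme.Modules.pullbackCongr hifst.symm).app _ ≪≫
    ((Scheme.Modules.pullbackComp i _).app _).symm

end Groth.Agent.Curves2.RelVA
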