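import Groth.Agent.Curves2.VeryAmple.Embed
import Groth.Agent.Crv77.OmegaCanon
import Groth.Agent.Crv77.RR
import Groth.Agent.Curves2.RelVA.Immersion

/-!
Smooth proper families of curves: very ampleness in large degree
-/

set_option autoImplicit false
set_option linter.style.haveILetI false
set_option maxSynthPendingDepth 6
set_option backward.isDefEq.respectTransparency false
set_option backward.isDefEq.respectTransparency.types false

universe u

noncomputable section

open CategoryTheory CategoryTheory.Limits AlgebraicGeometry TopologicalSpace Opposite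
open Groth.Agent.Var76.LineBundle Groth.Agent.Var76.ZeroScheme Groth.Agent.Amp73

namespace Groth.Agent.Curves2.RelVA

section field

variable (k : Type u) [Field k] (X : Scheme.{u}) [X.Over (Spec (CommRingCat.of k))]
  [IsProper (X ↘ Spec (CommRingCat.of k))] [Smooth (X ↘ Spec (CommRingCat.of k))]
  [GeometricallyConnected (X ↘ Spec (CommRingCat.of k))]

theorem geometricallyIntegral_of_connected : GeometricallyIntegral (X ↘ Spec (CommRingCat.of k)) :=
  have := Crv77.geometricallyIrreducible_of_connected k X
  have := AlgGrp79.geometricallyReduced_of_smooth (X ↘ Spec (CommRingCat.of k))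
  GeometricallyIntegral.of_geometricallyReduced_of_geometricallyIrreducible _

/-- The fibre criterion for a smooth proper connected curve in degree at least `2g+1`. -/
theorem curve_criterion (hdim : topologicalKrullDim X = 1) (L : X.Modules) (hL : PicF.IsInvertible L)
    (hdeg : 2 * (Curv2.genus k X : ℤ) + 1 ≤ Curv2.deg k X L 1) :
    Subsingleton (Coh.HH X L 1) ∧ ∀ z : X, ∃ (t : Γ(L, ⊤)) (G : X.Opens),
      G = CohB1.genLocus L (Var76.Frames.ofSection L t) ∧ z ∈ G ∧ IsAffineOpen G ∧
        Subring.closure (Set.range ((X ↘ Spec (CommRingCat.of k)).appLE ⊤ G le_top) ∪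
          {a | ∃ v : Γ(L, ⊤), a • res L (le_top : G ≤ ⊤) t = res L (le_top : G ≤ ⊤) v}) = ⊤ := by
  haveI := geometricallyIntegral_of_connected k X
  haveI : Subsingleton (Spec (CommRingCat.of k)) := inferInstanceAs (Subsingleton (PrimeSpectrum k))
  haveI : IsIntegral X := GeometricallyIntegral.isIntegral_of_subsingleton (X ↘ Spec (CommRingCat.of k))
  haveI := Crv77.isNoetherian_of_proper k X
  have h0 := Crv77.finrank_h0_of_connected k X
  have hX := Crv77.curveCoh_of_proper k X hdim.le
  refine ⟨hX.h1_eq_zero_of_deg_gt hdim h0 hL (by omega), fun z => ?_⟩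
  have hamp : CohB1.IsAmple L := (S1530.result k X hdim L hL).2 (by omega)
  obtain ⟨y, hy, hzy⟩ := Crv77.exists_isClosed_specializes z
  obtain ⟨t, ht⟩ := Crv77.exists_gen_of_isGloballyGenerated hL
    (hX.isGloballyGenerated_of_deg hdim h0 hL (by omega)) hy
  let G := CohB1.genLocus L (Var76.Frames.ofSection L t)
  have hG : IsAffineOpen G := GenAff57.isAffineOpen_genLocus (X ↘ Spec (CommRingCat.of k)) hamp _
  refine ⟨t, G, rfl, hzy.mem_open (CohB1.genLocus L _).2 ht, hG, ?_⟩
  rw [eq_top_iff, ← VeryAmple.closure_eq_top_of_geometricallyIntegral hdim h0 L hL hdeg t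
    ⟨z, hzy.mem_open (CohB1.genLocus L _).2 ht⟩ G rfl hG]
  refine Subring.closure_le.2 ?_
  rintro a (⟨c, rfl⟩ | ha)
  · rw [VeryAmple.constH_eq_appLE]
    exact Subring.subset_closure (Or.inl ⟨_, rfl⟩)
  · exact Subring.subset_closure (Or.inr ha)

end field

/-- An invertible module of degree at least `2g+1` on every fibre of a family of curves is very ample over
an affine base. -/
theorem isRelVeryAmplePn_of_fibre_deg {X S : Scheme.{u}} [IsAffine S] (f : X ⟶ S) [IsProper f] [Smooth f]
    [GeometricallyConnected f] (hdim : ∀ s : S, topologicalKrullDim ↥(f.fiber s) = 1)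
    (L : X.Modules) (hL : PicF.IsInvertible L)
    (hdeg : ∀ s : S, letI : (f.fiber s).Over (Spec (S.residueField s)) := ⟨f.fiberToSpecResidueField s⟩
      2 * (Curv2.genus (S.residueField s) (f.fiber s) : ℤ) + 1 ≤
        Curv2.deg (S.residueField s) (f.fiber s) (CohIII.fiberMod f L s) 1) :
    RelAmple.IsRelVeryAmplePn f L := by
  have key : ∀ s : S, Subsingleton (CohIII.fiberH f L s 1) ∧ ∀ z : f.fiber s,
      ∃ (t : Γ(CohIII.fiberMod f L s, ⊤)) (G : (f.fiber s).Opens),
        G = CohB1.genLocus _ (Var76.Frames.ofSection _ t) ∧ z ∈ G ∧ IsAffineOpen G ∧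
          Subring.closure (Set.range ((f.fiberToSpecResidueField s).appLE ⊤ G le_top) ∪
            {a | ∃ v : Γ(CohIII.fiberMod f L s, ⊤),
              a • res _ (le_top : G ≤ ⊤) t = res _ (le_top : G ≤ ⊤) v}) = ⊤ := fun s => by
    letI : (f.fiber s).Over (Spec (CommRingCat.of (S.residueField s))) := ⟨f.fiberToSpecResidueField s⟩
    haveI : IsProper ((f.fiber s) ↘ Spec (CommRingCat.of (S.residueField s))) :=
      MorphismProperty.pullback_snd f _ inferInstance
    haveI : Smooth ((f.fiber s) ↘ Spec (CommRingCat.of (S.residueField s))) :=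
      MorphismProperty.pullback_snd f _ inferInstance
    haveI : GeometricallyConnected ((f.fiber s) ↘ Spec (CommRingCat.of (S.residueField s))) :=
      MorphismProperty.pullback_snd f _ inferInstance
    exact curve_criterion (S.residueField s) (f.fiber s) (hdim s) _
      (isInvertible_pullback (f.fiberι s) hL) (hdeg s)
  exact isRelVeryAmplePn_of_fibres f L hL (fun s => (key s).1) fun s => (key s).2

end Groth.Agent.Curves2.RelVA
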