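import Groth.Agent.Curves2.RelVA.Immersion
import Groth.Agent.ConsProp93.Criterion
import Groth.Agent.ASB64.SBHorrocks

/-!
The fibre criterion under restriction to an open of the base
-/

set_option autoImplicit false
set_option linter.style.haveILetI false
set_option backward.isDefEq.respectTransparency false
set_option backward.isDefEq.respectTransparency.types false

universe u

noncomputable section

open CategoryTheory CategoryTheory.Limits AlgebraicGeometry TopologicalSpace Opposite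
open Groth.Agent.Var76.LineBundle Groth.Agent.Var76.ZeroScheme Groth.Agent.Amp73

namespace Groth.Agent.Curves2.RelVA

variable {X S : Scheme.{u}}

/-- The hypothesis of the fibrewise criterion of very ampleness at a point of the base. -/
def Crit (f : X ⟶ S) (L : X.Modules) (s : S) : Prop :=
  Subsingleton (CohIII.fiberH f L s 1) ∧
    ∀ z : f.fiber s, ∃ (t : Γ(CohIII.fiberMod f L s, ⊤)) (G : (f.fiber s).Opens),
      G = CohB1.genLocus _ (Var76.Frames.ofSection _ t) ∧ z ∈ G ∧ IsAffineOpen G ∧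
        Subring.closure (Set.range ((f.fiberToSpecResidueField s).appLE ⊤ G le_top) ∪
          {a | ∃ v : Γ(CohIII.fiberMod f L s, ⊤),
            a • res _ (le_top : G ≤ ⊤) t = res _ (le_top : G ≤ ⊤) v}) = ⊤

/-- The criterion is carried along an isomorphism of schemes and modules. -/
theorem criterion_of_iso {Y Y' : Scheme.{u}} {B B' : Scheme.{u}} (π : Y ⟶ B) (π' : Y' ⟶ B') (m : Y' ⟶ Y) [IsIso m]
    (b : B' ⟶ B) (hw : π' ≫ b = m ≫ π) {M : Y.Modules} (hM : PicF.IsInvertible M) {M' : Y'.Modules}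
    (φ : (Scheme.Modules.pullback m).obj M ≅ M')
    (h : ∀ z : Y, ∃ (t : Γ(M, ⊤)) (G : Y.Opens),
      G = CohB1.genLocus _ (Var76.Frames.ofSection _ t) ∧ z ∈ G ∧ IsAffineOpen G ∧
        Subring.closure (Set.range (π.appLE ⊤ G le_top) ∪
          {a | ∃ v : Γ(M, ⊤), a • res _ (le_top : G ≤ ⊤) t = res _ (le_top : G ≤ ⊤) v}) = ⊤) (z : Y') :
    ∃ (t : Γ(M', ⊤)) (G : Y'.Opens),
      G = CohB1.genLocus _ (Var76.Frames.ofSection _ t) ∧ z ∈ G ∧ IsAffineOpen G ∧
        Subring.closure (Set.range (π'.appLE ⊤ G le_top) ∪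
          {a | ∃ v : Γ(M', ⊤), a • res _ (le_top : G ≤ ⊤) t = res _ (le_top : G ≤ ⊤) v}) = ⊤ := by
  obtain ⟨t, G, hG, hz, haff, hcl⟩ := h (m z)
  subst hG
  let G₀ := CohB1.genLocus M (Var76.Frames.ofSection M t)
  let tr : Γ(M, ⊤) → Γ(M', ⊤) := fun v => φ.hom.app ⊤ (pullS m M ⊤ v)
  refine ⟨tr t, m ⁻¹ᵁ G₀, ?_, hz, haff.preimage m, eq_top_iff.2 fun a _ => ?_⟩
  · rw [← genLocus_pullHom m hM, ← genLocus_comp_iso _ φ.hom, ← EGA73.AmpleImmersion.genLocus_ofSection_val]
    refine congrArg (fun v => CohB1.genLocus M' (Var76.Frames.ofSection M' v)) ?_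
    show φ.hom.app ⊤ (val _ (pullHom m (Var76.Frames.ofSection M t)) ⊤) = tr t
    refine congrArg (φ.hom.app ⊤) ((val_pullHom m _ ⊤).trans (congrArg (pullS m M ⊤) ?_))
    rw [Var76.Frames.val_ofSection]
    exact Amp73.res_self _ _
  obtain ⟨c, rfl⟩ : ∃ c, m.app G₀ c = a := (ConcreteCategory.bijective_of_isIso (m.app G₀)).2 a
  have hmap : (Subring.closure (Set.range (π.appLE ⊤ G₀ le_top) ∪
      {a | ∃ v : Γ(M, ⊤), a • res M (le_top : G₀ ≤ ⊤) t = res M (le_top : G₀ ≤ ⊤) v})).map (m.app G₀).hom ≤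
      Subring.closure (Set.range (π'.appLE ⊤ (m ⁻¹ᵁ G₀) le_top) ∪
        {a | ∃ v : Γ(M', ⊤), a • res M' (le_top : m ⁻¹ᵁ G₀ ≤ ⊤) (tr t) = res M' (le_top : m ⁻¹ᵁ G₀ ≤ ⊤) v}) := by
    rw [RingHom.map_closure, Subring.closure_le]
    rintro _ ⟨x, (⟨r, rfl⟩ | ⟨v, hv⟩), rfl⟩
    · refine Subring.subset_closure (Or.inl ⟨b.appLE ⊤ ⊤ le_top r, ?_⟩)
      show π'.appLE ⊤ (m ⁻¹ᵁ G₀) le_top (b.appLE ⊤ ⊤ le_top r) = m.app G₀ (π.appLE ⊤ G₀ le_top r)
      rw [Scheme.Hom.app_eq_appLE]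
      have hcongr : ∀ (ψ ψ' : Y' ⟶ B) (_ : ψ = ψ'),
          ψ.appLE ⊤ (m ⁻¹ᵁ G₀) le_top r = ψ'.appLE ⊤ (m ⁻¹ᵁ G₀) le_top r := fun ψ ψ' h => by rw [h]
      exact (ConcreteCategory.congr_hom (Scheme.Hom.appLE_comp_appLE π' b ⊤ ⊤ _ le_top le_top) r).trans
        ((hcongr _ _ hw).trans
          (ConcreteCategory.congr_hom (Scheme.Hom.appLE_comp_appLE m π ⊤ G₀ (m ⁻¹ᵁ G₀) le_top le_rfl) r).symm)
    · refine Subring.subset_closure (Or.inr ⟨tr v, ?_⟩)
      have e : ∀ w : Γ(M, ⊤), res M' (le_top : m ⁻¹ᵁ G₀ ≤ ⊤) (tr w) =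
          φ.hom.app (m ⁻¹ᵁ G₀) (pullS m M G₀ (res M le_top w)) := fun w =>
        (Mero90.app_res φ.hom _ _).symm.trans (congrArg (φ.hom.app (m ⁻¹ᵁ G₀)) (res_pullS m M le_top w))
      rw [e, e, ← hv, pullS_smul, Scheme.Modules.Hom.app_smul]
  exact hmap ⟨c, hcl.ge (Subring.mem_top c), rfl⟩

/-- The criterion passes to the restriction over an open subscheme of the base. -/
theorem crit_restrict (f : X ⟶ S) (V : S.Opens) {L : X.Modules} (hL : PicF.IsInvertible L) (v : (V : Scheme.{u}))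
    (h : Crit f L (V.ι v)) : Crit (f ∣_ V) (L.restrict (f ⁻¹ᵁ V).ι) v := by
  let f' := f ∣_ V
  let ι := (f ⁻¹ᵁ V).ι
  obtain ⟨m, hm, hpb⟩ := ConsProp93.exists_isPullback_fiber (isPullback_morphismRestrict f V).flip v
  haveI : IsIso (Spec.map (V.ι.residueFieldMap v)) := inferInstance
  haveI : IsIso m := MorphismProperty.of_isPullback (P := MorphismProperty.isomorphisms Scheme.{u}) hpb.flip
    (MorphismProperty.isomorphisms.infer_property _)
  let φ : (Scheme.Modules.pullback m).obj (CohIII.fiberMod f L (V.ι v)) ≅ CohIII.fiberMod f' (L.restrict ι) v :=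
    (Scheme.Modules.pullbackComp m (f.fiberι (V.ι v))).app L ≪≫ (Scheme.Modules.pullbackCongr hm).app L ≪≫
      ((Scheme.Modules.pullbackComp (f'.fiberι v) ι).app L).symm ≪≫
      (Scheme.Modules.pullback (f'.fiberι v)).mapIso ((Scheme.Modules.restrictFunctorIsoPullback ι).app L).symm
  have hLs := isInvertible_pullback (f.fiberι (V.ι v)) hL
  refine ⟨?_, criterion_of_iso (f.fiberToSpecResidueField (V.ι v)) (f'.fiberToSpecResidueField v) m
    (Spec.map (V.ι.residueFieldMap v)) hpb.w.symm hLs φ h.2⟩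
  haveI : (CohIII.fiberMod f L (V.ι v)).IsQuasicoherent := Mero90.isQCoh_of_isInvertible hLs
  exact ValVan29.subsingleton_hh_of_iso φ 1 ((ASB64.subsingleton_hh_pullback_iso m _ 1).2 h.1)

/-- The criterion over every point gives very ampleness over an affine open of the base. -/
theorem isRelVeryAmplePn_restrict (f : X ⟶ S) [IsProper f] [LocallyOfFinitePresentation f] [Flat f]
    (L : X.Modules) (hL : PicF.IsInvertible L) (h : ∀ s, Crit f L s) (V : S.affineOpens) :
    RelAmple.IsRelVeryAmplePn (f ∣_ V.1) (L.restrict (f ⁻¹ᵁ V.1).ι) := by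
  haveI : IsAffine (V.1 : Scheme.{u}) := V.2
  have hsq := (isPullback_morphismRestrict f V.1).flip
  haveI : IsProper (f ∣_ V.1) := MorphismProperty.of_isPullback (P := @IsProper) hsq inferInstance
  haveI : LocallyOfFinitePresentation (f ∣_ V.1) :=
    MorphismProperty.of_isPullback (P := @LocallyOfFinitePresentation) hsq inferInstance
  haveI : Flat (f ∣_ V.1) := MorphismProperty.of_isPullback (P := @Flat) hsq inferInstance
  have hL' : PicF.IsInvertible (L.restrict (f ⁻¹ᵁ V.1).ι) :=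
    EGA73.isInvertible_of_iso ((Scheme.Modules.restrictFunctorIsoPullback (f ⁻¹ᵁ V.1).ι).app L).symm
      (isInvertible_pullback (f ⁻¹ᵁ V.1).ι hL)
  have hc := fun v => crit_restrict f V.1 hL v (h (V.1.ι v))
  exact isRelVeryAmplePn_of_fibres (f ∣_ V.1) _ hL' (fun v => (hc v).1) fun v => (hc v).2

end Groth.Agent.Curves2.RelVA
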