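import Groth.Agent.Curves2.RelVA.CurveFibre
import Groth.Agent.Curves2.RelVA.FibreRestrict
import Groth.Agent.Crv77.OmegaCanon
import Groth.Agent.Crv77.MaxSeries
import Groth.Agent.Amp73.PullTensor

/-!
Powers of the relative differentials of a smooth family of curves
-/

set_option autoImplicit false
set_option linter.style.haveILetI false
set_option maxSynthPendingDepth 6
set_option backward.isDefEq.respectTransparency false
set_option backward.isDefEq.respectTransparency.types false

universe u

noncomputable section

open CategoryTheory CategoryTheory.Limits AlgebraicGeometry TopologicalSpace Opposite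

namespace Groth.Agent.Curves2.RelVA

variable {X S : Scheme.{u}} (f : X ⟶ S) [IsProper f] [Smooth f] [GeometricallyConnected f]

theorem irreducibleSpace_fibre (s : S) : IrreducibleSpace ↥(f.fiber s) := by
  letI : (f.fiber s).Over (Spec (CommRingCat.of (S.residueField s))) := ⟨f.fiberToSpecResidueField s⟩
  haveI : IsProper ((f.fiber s) ↘ Spec (CommRingCat.of (S.residueField s))) :=
    MorphismProperty.pullback_snd f _ inferInstance
  haveI : Smooth ((f.fiber s) ↘ Spec (CommRingCat.of (S.residueField s))) :=
    MorphismProperty.pullback_snd f _ inferInstance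
  haveI : GeometricallyConnected ((f.fiber s) ↘ Spec (CommRingCat.of (S.residueField s))) :=
    MorphismProperty.pullback_snd f _ inferInstance
  haveI := geometricallyIntegral_of_connected (S.residueField s) (f.fiber s)
  haveI : Subsingleton (Spec (CommRingCat.of (S.residueField s))) :=
    inferInstanceAs (Subsingleton (PrimeSpectrum (S.residueField s)))
  haveI : IsIntegral (f.fiber s) :=
    GeometricallyIntegral.isIntegral_of_subsingleton ((f.fiber s) ↘ Spec (CommRingCat.of (S.residueField s)))
  infer_instance

theorem isInvertible_omega (hdim : ∀ s : S, topologicalKrullDim ↥(f.fiber s) = 1) :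
    PicF.IsInvertible (Omega.sheaf f) := fun x => by
  haveI : SmoothOfRelativeDimension 1 f := RedPts82.smoothOfRelativeDimension_of_fibres f 1
    (fun s => S.residueField s) (fun s => S.fromSpecResidueField s)
    (fun s p => Scheme.fromSpecResidueField_apply s p) (fun s => irreducibleSpace_fibre f s)
    (fun s => (hdim s).trans (by norm_num))
  obtain ⟨U, hU, ⟨φ⟩⟩ := Om3.TopForms.isFinLocFreeOfRank_omega f 1 x
  exact ⟨U, hU, ⟨φ ≪≫ Limits.coproductUniqueIso _⟩⟩

theorem nonempty_fiberMod_omega_iso (s : S) :
    Nonempty (CohIII.fiberMod f (Omega.sheaf f) s ≅ Omega.sheaf (f.fiberToSpecResidueField s)) := by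
  let g := S.fromSpecResidueField s
  let f' := f.fiberToSpecResidueField s
  haveI : IsProper f' := MorphismProperty.pullback_snd f _ inferInstance
  obtain ⟨c, hc, -⟩ := Om3.existsUnique_diffCompat (f.fiberι s)
    (show f' ≫ g = f.fiberι s ≫ f from (f.fiber_fac s).symm)
    (Var76.OmegaUniv.isUniversal f) (OmegaSh.dOmega f')
  have := Om3.isIso_of_isPullback f g (f.fiberι s) f' (IsPullback.of_hasPullback f g)
    (Var76.OmegaUniv.isUniversal f) (Var76.OmegaUniv.isUniversal f') c hc
  exact ⟨asIso c⟩

/-- Powers at least three of the differentials satisfy the fibre criterion. -/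
theorem crit_tensorPow_omega (hdim : ∀ s : S, topologicalKrullDim ↥(f.fiber s) = 1) (g : ℕ) (hg : 2 ≤ g)
    (hgen : ∀ s : S, letI : (f.fiber s).Over (Spec (S.residueField s)) := ⟨f.fiberToSpecResidueField s⟩
      Curv2.genus (S.residueField s) (f.fiber s) = g)
    (n : ℕ) (hn : 3 ≤ n) (s : S) : Crit f (CohB1.tensorPow (Omega.sheaf f) n) s := by
  letI : (f.fiber s).Over (Spec (CommRingCat.of (S.residueField s))) := ⟨f.fiberToSpecResidueField s⟩
  haveI : IsProper ((f.fiber s) ↘ Spec (CommRingCat.of (S.residueField s))) :=
    MorphismProperty.pullback_snd f _ inferInstance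
  haveI : Smooth ((f.fiber s) ↘ Spec (CommRingCat.of (S.residueField s))) :=
    MorphismProperty.pullback_snd f _ inferInstance
  haveI : GeometricallyConnected ((f.fiber s) ↘ Spec (CommRingCat.of (S.residueField s))) :=
    MorphismProperty.pullback_snd f _ inferInstance
  haveI := geometricallyIntegral_of_connected (S.residueField s) (f.fiber s)
  haveI : Subsingleton (Spec (CommRingCat.of (S.residueField s))) :=
    inferInstanceAs (Subsingleton (PrimeSpectrum (S.residueField s)))
  haveI : IsIntegral (f.fiber s) :=
    GeometricallyIntegral.isIntegral_of_subsingleton ((f.fiber s) ↘ Spec (CommRingCat.of (S.residueField s)))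
  haveI := Crv77.isNoetherian_of_proper (S.residueField s) (f.fiber s)
  have hX := Crv77.curveCoh_of_proper (S.residueField s) (f.fiber s) (hdim s).le
  have hΩ := isInvertible_omega f hdim
  have hΩs := Amp73.isInvertible_pullback (f.fiberι s) hΩ
  obtain ⟨eΩ⟩ := nonempty_fiberMod_omega_iso f s
  have hd1 : Curv2.deg (S.residueField s) (f.fiber s) (CohIII.fiberMod f (Omega.sheaf f) s) 1 =
      2 * (g : ℤ) - 2 := by
    have h := (Crv77.deg_omega_of_connected (S.residueField s) (f.fiber s) (hdim s)).1
    rw [show Curv2.genus (S.residueField s) (f.fiber s) = g from hgen s] at h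
    simp only [Curv2.deg] at h ⊢
    rw [Crv77.euler_congr eΩ]
    exact h
  have hdn : Curv2.deg (S.residueField s) (f.fiber s)
      (CohIII.fiberMod f (CohB1.tensorPow (Omega.sheaf f) n) s) 1 = (n : ℤ) * (2 * (g : ℤ) - 2) := by
    rw [← hd1, ← hX.deg_tensorPow (hdim s).le hΩs n]
    simp only [Curv2.deg]
    rw [Crv77.euler_congr (Amp73.pullPowIso (f.fiberι s) hΩ n)]
  refine curve_criterion (S.residueField s) (f.fiber s) (hdim s) _
    (Amp73.isInvertible_pullback _ (EGA73.isInvertible_tensorPow hΩ n)) ?_
  rw [show Curv2.genus (S.residueField s) (f.fiber s) = g from hgen s]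
  refine le_of_le_of_eq ?_ hdn.symm
  have hn' : (3 : ℤ) ≤ n := by exact_mod_cast hn
  have hg' : (2 : ℤ) ≤ g := by exact_mod_cast hg
  nlinarith

end Groth.Agent.Curves2.RelVA
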