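import Groth.Agent.Curves2.RelVA.PushRank
import Groth.Agent.Curves2.RelVA.OmegaPow

/-!
Degrees on the fibres of a smooth family of curves
-/

set_option autoImplicit false
set_option linter.style.haveILetI false
set_option maxSynthPendingDepth 6
set_option backward.isDefEq.respectTransparency false
set_option backward.isDefEq.respectTransparency.types false

universe u

noncomputable section

open CategoryTheory CategoryTheory.Limits AlgebraicGeometry TopologicalSpace Opposite

namespace Groth.Agent.Curves2.RelVA

variable {X S : Scheme.{u}} (f : X ⟶ S) [IsProper f] [Smooth f] [GeometricallyConnected f]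

/-- The degree of a power of the differentials on a fibre. -/
theorem deg_tensorPow_omega (hdim : ∀ s : S, topologicalKrullDim ↥(f.fiber s) = 1) (g : ℕ)
    (hgen : ∀ s : S, letI : (f.fiber s).Over (Spec (S.residueField s)) := ⟨f.fiberToSpecResidueField s⟩
      Curv2.genus (S.residueField s) (f.fiber s) = g)
    (n : ℕ) (s : S) :
    letI : (f.fiber s).Over (Spec (CommRingCat.of (S.residueField s))) := ⟨f.fiberToSpecResidueField s⟩
    Curv2.deg (S.residueField s) (f.fiber s) (CohIII.fiberMod f (CohB1.tensorPow (Omega.sheaf f) n) s) 1 =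
      (n : ℤ) * (2 * (g : ℤ) - 2) := by
  letI : (f.fiber s).Over (Spec (CommRingCat.of (S.residueField s))) := ⟨f.fiberToSpecResidueField s⟩
  haveI : IsProper ((f.fiber s) ↘ Spec (CommRingCat.of (S.residueField s))) :=
    MorphismProperty.pullback_snd f _ inferInstance
  haveI : Smooth ((f.fiber s) ↘ Spec (CommRingCat.of (S.residueField s))) :=
    MorphismProperty.pullback_snd f _ inferInstance
  haveI : GeometricallyConnected ((f.fiber s) ↘ Spec (CommRingCat.of (S.residueField s))) :=
    MorphismProperty.pullback_snd f _ inferInstance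
  haveI := geometricallyIntegral_of_connected (S.residueField s) (f.fiber s)
  haveI : Subsingleton (Spec (CommRingCat.of (S.residueField s))) :=
    inferInstanceAs (Subsingleton (PrimeSpectrum (S.residueField s)))
  haveI : IsIntegral (f.fiber s) :=
    GeometricallyIntegral.isIntegral_of_subsingleton ((f.fiber s) ↘ Spec (CommRingCat.of (S.residueField s)))
  haveI := Crv77.isNoetherian_of_proper (S.residueField s) (f.fiber s)
  have hX := Crv77.curveCoh_of_proper (S.residueField s) (f.fiber s) (hdim s).le
  have hΩ := isInvertible_omega f hdim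
  have hΩs := Amp73.isInvertible_pullback (f.fiberι s) hΩ
  obtain ⟨eΩ⟩ := nonempty_fiberMod_omega_iso f s
  have hd1 : Curv2.deg (S.residueField s) (f.fiber s) (CohIII.fiberMod f (Omega.sheaf f) s) 1 =
      2 * (g : ℤ) - 2 := by
    have h := (Crv77.deg_omega_of_connected (S.residueField s) (f.fiber s) (hdim s)).1
    rw [show Curv2.genus (S.residueField s) (f.fiber s) = g from hgen s] at h
    simp only [Curv2.deg] at h ⊢
    rw [Crv77.euler_congr eΩ]
    exact h
  rw [← hd1, ← hX.deg_tensorPow (hdim s).le hΩs n]
  simp only [Curv2.deg]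
  rw [Crv77.euler_congr (Amp73.pullPowIso (f.fiberι s) hΩ n)]

/-- Above the canonical degree the fibres have no first cohomology and sections by Riemann–Roch. -/
theorem fibre_of_deg_gt (hdim : ∀ s : S, topologicalKrullDim ↥(f.fiber s) = 1) (g : ℕ)
    (hgen : ∀ s : S, letI : (f.fiber s).Over (Spec (S.residueField s)) := ⟨f.fiberToSpecResidueField s⟩
      Curv2.genus (S.residueField s) (f.fiber s) = g)
    (L : X.Modules) (hL : PicF.IsInvertible L) (d : ℤ) (hd : 2 * (g : ℤ) - 2 < d) (s : S)
    (hdeg : letI : (f.fiber s).Over (Spec (CommRingCat.of (S.residueField s))) := ⟨f.fiberToSpecResidueField s⟩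
      Curv2.deg (S.residueField s) (f.fiber s) (CohIII.fiberMod f L s) 1 = d) :
    Subsingleton (CohIII.fiberH f L s 1) ∧ (CohIII.fiberRank f L 0 s : ℤ) = d + 1 - g := by
  letI : (f.fiber s).Over (Spec (CommRingCat.of (S.residueField s))) := ⟨f.fiberToSpecResidueField s⟩
  haveI : IsProper ((f.fiber s) ↘ Spec (CommRingCat.of (S.residueField s))) :=
    MorphismProperty.pullback_snd f _ inferInstance
  haveI : Smooth ((f.fiber s) ↘ Spec (CommRingCat.of (S.residueField s))) :=
    MorphismProperty.pullback_snd f _ inferInstance
  haveI : GeometricallyConnected ((f.fiber s) ↘ Spec (CommRingCat.of (S.residueField s))) :=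
    MorphismProperty.pullback_snd f _ inferInstance
  haveI := geometricallyIntegral_of_connected (S.residueField s) (f.fiber s)
  haveI : Subsingleton (Spec (CommRingCat.of (S.residueField s))) :=
    inferInstanceAs (Subsingleton (PrimeSpectrum (S.residueField s)))
  haveI : IsIntegral (f.fiber s) :=
    GeometricallyIntegral.isIntegral_of_subsingleton ((f.fiber s) ↘ Spec (CommRingCat.of (S.residueField s)))
  haveI := Crv77.isNoetherian_of_proper (S.residueField s) (f.fiber s)
  have h0 := Crv77.finrank_h0_of_connected (S.residueField s) (f.fiber s)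
  have hX := Crv77.curveCoh_of_proper (S.residueField s) (f.fiber s) (hdim s).le
  have hLs := Amp73.isInvertible_pullback (f.fiberι s) hL
  have hg : Curv2.genus (S.residueField s) (f.fiber s) = g := hgen s
  have h1 : Subsingleton (Coh.HH (f.fiber s) (CohIII.fiberMod f L s) 1) :=
    hX.h1_eq_zero_of_deg_gt (hdim s) h0 hLs (by rw [hg, hdeg]; exact hd)
  refine ⟨h1, ?_⟩
  have h := hdeg
  rw [Curv2.deg, hX.euler_eq (Crv77.isCoh_of_isInvertible hLs), hX.euler_eq Crv77.isCoh_structureModule] at h
  simp only [Crv77.h, h0, Nat.cast_one, one_mul,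
    Module.finrank_zero_of_subsingleton (R := S.residueField s) (M := Coh.HH (f.fiber s) (CohIII.fiberMod f L s) 1)] at h
  have hgO : Module.finrank (S.residueField s) (Coh.HH (f.fiber s) (Coh.structureModule (f.fiber s)) 1) = g := hg
  have key : (Module.finrank (S.residueField s) (Coh.HH (f.fiber s) (CohIII.fiberMod f L s) 0) : ℤ) = d + 1 - g := by
    simp only [CohIII.fiberMod] at h ⊢
    omega
  exact key

end Groth.Agent.Curves2.RelVA
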