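import Groth.Agent.Mum71.BcZero
import Groth.Agent.Cube73.Semicont
import Groth.Agent.Cube73.Model
import Groth.Agent.Amp73.Pullback
import Groth.Agent.EGA73.Invertible

/-!
Sections on a fibre without first cohomology come from sections near the fibre
-/

set_option autoImplicit false
set_option linter.style.haveILetI false
set_option maxSynthPendingDepth 6
set_option synthInstance.maxHeartbeats 200000
set_option backward.isDefEq.respectTransparency.types false

universe u

noncomputable section

open CategoryTheory CategoryTheory.Limits AlgebraicGeometry TopologicalSpace Opposite TensorProduct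

namespace Groth.Agent.Curves2.RelVA

variable {X S : Scheme.{u}} (f : X ⟶ S)

theorem le_preimage_fiberι {s : S} {V : S.Opens} (hs : s ∈ V) :
    (⊤ : (f.fiber s).Opens) ≤ f.fiberι s ⁻¹ᵁ (f ⁻¹ᵁ V) := fun x _ => by
  show f (f.fiberι s x) ∈ V
  rw [← Scheme.Hom.comp_apply, f.fiber_fac s, Scheme.Hom.comp_apply, Scheme.fromSpecResidueField_apply]
  exact hs

/-- A section on the fibre, restricted from the preimage of an open. -/
def toFibre (L : X.Modules) {s : S} {V : S.Opens} (hs : s ∈ V) (m : Γ(L, f ⁻¹ᵁ V)) :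
    Γ((Scheme.Modules.pullback (f.fiberι s)).obj L, ⊤) :=
  QC70.res _ (le_preimage_fiberι f hs) (Amp73.pullS (f.fiberι s) L (f ⁻¹ᵁ V) m)

/-- Without first cohomology on a fibre, sections near the fibre span the sections on it. -/
theorem mem_closure_toFibre [IsProper f] [LocallyOfFinitePresentation f] [Flat f]
    (L : X.Modules) (hL : PicF.IsInvertible L) (s : S) {V : S.Opens} (hV : IsAffineOpen V) (hs : s ∈ V)
    (h1 : Subsingleton (CohIII.fiberH f L s 1))
    (t : Γ((Scheme.Modules.pullback (f.fiberι s)).obj L, ⊤)) :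
    t ∈ AddSubgroup.closure {x | ∃ (c : Γ(Spec (S.residueField s), ⊤)) (m : Γ(L, f ⁻¹ᵁ V)),
      x = (f.fiberToSpecResidueField s).appLE ⊤ ⊤ le_top c • toFibre f L hs m} := by
  haveI : L.IsQuasicoherent := Mero90.isQCoh_of_isInvertible hL
  obtain ⟨M⟩ := Mum71.exists_cohModel f L (Cube73.isFP_of_isInvertible hL)
    (Cube73.isFlatOver_of_isInvertible f hL) hV
  obtain ⟨a, hsa, ha⟩ := Mum71.exists_vanishAt hV M 1 hs h1
  have hsp : Mum71.Split.SplitsAt (M.K.d ((0 : ℕ) : ℤ) (((0 : ℕ) : ℤ) + 1)).hom a :=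
    Mum71.splitsAt_d_congr M (by omega) (by omega) ha.2.1
  let g := S.fromSpecResidueField s
  let f' := f.fiberToSpecResidueField s
  let ι := f.fiberι s
  let G := (Scheme.Modules.pullback ι).obj L
  have hX : IsPullback ι f' f g := IsPullback.of_hasPullback _ _
  have hiso : IsIso (CohBC.bc0 f g f' ι hX.w L) :=
    Mum71.isIso_bc0_of_good f L ι f' g hX fun z => by
      rw [show g z = s from Scheme.fromSpecResidueField_apply s z]
      exact Mum71.good_of_splitsAt hV M hsa hsp
  let R := (Scheme.Modules.pushforward f).obj L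
  haveI : R.IsQuasicoherent := QCqs72.isQuasicoherent_pushforward L f
  have hVV' : (⊤ : (Spec (S.residueField s)).Opens) ≤ g ⁻¹ᵁ V := fun z _ => by
    show g z ∈ V
    rwa [show g z = s from Scheme.fromSpecResidueField_apply s z]
  letI := (g.appLE V ⊤ hVV').hom.toAlgebra
  obtain ⟨e, he⟩ := LimTop61.exists_baseChange_equiv g R hV (isAffineOpen_top _) (e := hVV')
  let β : Γ((Scheme.Modules.pullback g).obj R, ⊤) → Γ((Scheme.Modules.pushforward f').obj G, ⊤) :=
    fun x => (CohBC.bc0 f g f' ι hX.w L).app ⊤ x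
  have hβ : ∀ m : Γ(R, V), β (QCPull72.unitSec g R hVV' m) = toFibre f L hs m := fun m => by
    show (CohBC.bc0 f g f' ι hX.w L).app ⊤ (QCPull72.unitSec g R hVV' m) = _
    rw [QCPull72.unitSec, QC70.app_res]
    have h1 : (Scheme.Modules.pullbackPushforwardAdjunction g).unit.app R ≫
        (Scheme.Modules.pushforward g).map (CohBC.bc0 f g f' ι hX.w L) = CohBC.bc0Adj f g f' ι hX.w L :=
      ((Scheme.Modules.pullbackPushforwardAdjunction g).homEquiv_unit _ _ _).symm.trans
        (Equiv.apply_symm_apply _ _)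
    refine (congrArg (QC70.res _ hVV') ((congr(Scheme.Modules.Hom.app $h1 V m)).trans
      (Mum71.bc0Adj_app ι f' g hX.w m))).trans ?_
    show QC70.res G _ (QC70.res G _ _) = QC70.res G _ _
    exact QC70.res_res _ _ _
  obtain ⟨x, rfl⟩ : ∃ x, β x = t :=
    ((ConcreteCategory.bijective_of_isIso
      (Scheme.Modules.Hom.app (CohBC.bc0 f g f' ι hX.w L) ⊤)).2 t)
  obtain ⟨z, rfl⟩ := e.symm.surjective x
  induction z with
  | zero =>
    rw [map_zero, show β 0 = 0 from map_zero _]
    exact AddSubgroup.zero_mem _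
  | add z₁ z₂ h₁ h₂ =>
    rw [map_add, show β (e.symm z₁ + e.symm z₂) = β (e.symm z₁) + β (e.symm z₂) from map_add _ _ _]
    exact AddSubgroup.add_mem _ h₁ h₂
  | tmul c m =>
    refine AddSubgroup.subset_closure ⟨c, m, ?_⟩
    have h2 : e.symm (c ⊗ₜ m) = c • QCPull72.unitSec g R hVV' m := e.injective (by
      rw [e.apply_symm_apply, map_smul, he, TensorProduct.smul_tmul', smul_eq_mul, mul_one])
    rw [h2, show β (c • QCPull72.unitSec g R hVV' m) = c • β (QCPull72.unitSec g R hVV' m) from
      Scheme.Modules.Hom.app_smul _ c _, hβ]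
    have h3 : f'.appLE ⊤ ⊤ le_top c = f'.app ⊤ c := by
      rw [Scheme.Hom.app_eq_appLE]
      rfl
    exact (congrArg (fun r : Γ(f.fiber s, ⊤) => r • toFibre f L hs m) h3).symm

end Groth.Agent.Curves2.RelVA
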