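import Groth.Agent.Curves2.VeryAmple.Embed
import Groth.Agent.Curves2.RelVA.Immersion
import Groth.Agent.RVA57.ProjSpace

/-!
The fibre criterion from very ampleness on the fibres
-/

set_option autoImplicit false
set_option linter.style.haveILetI false
set_option backward.isDefEq.respectTransparency.types false

universe u

noncomputable section

open CategoryTheory CategoryTheory.Limits AlgebraicGeometry TopologicalSpace Opposite
open HomogeneousLocalization
open Groth.Agent.Var76.LineBundle Groth.Agent.Var76.ZeroScheme Groth.Agent.Amp73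

namespace Groth.Agent.Curves2.RelVA

theorem criterion_of_isRelVeryAmplePn (A : Type u) [CommRing A] {X : Scheme.{u}}
    (π : X ⟶ Spec (CommRingCat.of A)) [IsProper π] (M : X.Modules) (h : RelAmple.IsRelVeryAmplePn π M) (z : X) :
    ∃ (t : Γ(M, ⊤)) (G : X.Opens),
      G = CohB1.genLocus M (Var76.Frames.ofSection M t) ∧ z ∈ G ∧ IsAffineOpen G ∧
        Subring.closure (Set.range (π.appLE ⊤ G le_top) ∪
          {a | ∃ v : Γ(M, ⊤), a • res M (le_top : G ≤ ⊤) t = res M (le_top : G ≤ ⊤) v}) = ⊤ := by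
  classical
  obtain ⟨n, i₀, hi, hiπ, ⟨e₀⟩⟩ := VeryAmple.exists_closedImmersion_projSpace A π M h
  let 𝒜 := CohB1.polyGrading n A
  let T1 := Twist.twist 𝒜 1
  let i : X ⟶ Proj 𝒜 := i₀
  let e : (Scheme.Modules.pullback i).obj T1 ≅ M := e₀
  haveI : IsClosedImmersion i := hi
  have hirr := RVA57.irrelevant_eq A n
  obtain ⟨k, hk⟩ : ∃ k : Fin (n + 1), i z ∈ Proj.basicOpen 𝒜 (MvPolynomial.X k) := by
    by_contra H
    push Not at H
    refine ProjectiveSpectrum.not_irrelevant_le (i z) (hirr.trans_le (Ideal.span_le.2 fun p hp => ?_))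
    have hc : p ∈ Submodule.span A (Set.range (MvPolynomial.X : Fin (n + 1) → MvPolynomial (Fin (n + 1)) A)) := by
      rw [← MvPolynomial.homogeneousSubmodule_one_eq_span_X]
      exact hp
    refine Submodule.span_induction (p := fun w _ => w ∈ (i z : ProjectiveSpectrum 𝒜).asHomogeneousIdeal.toIdeal)
      ?_ (zero_mem _) (fun a b _ _ ha hb => add_mem ha hb) (fun r a _ ha => ?_) hc
    · rintro _ ⟨j, rfl⟩
      exact not_not.1 (H j)
    · rw [MvPolynomial.smul_eq_C_mul]
      exact Ideal.mul_mem_left _ _ ha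
  let P1 := (Scheme.Modules.pullback i).obj T1
  let D := Proj.basicOpen 𝒜 ((RVA57.coord A n k).1 : MvPolynomial (Fin (n + 1)) A)
  let sec : Fin (n + 1) → Γ(M, ⊤) := fun j => e.hom.app ⊤ (pullS i T1 ⊤ (Var76.ProjFrame.sect 𝒜 (RVA57.coord A n j)))
  let G := i ⁻¹ᵁ D
  have hGe : G = CohB1.genLocus M (Var76.Frames.ofSection M (sec k)) := by
    have e1 : CohB1.genLocus _ (pullHom i (degOneHom 𝒜 (RVA57.coord A n k))) = G := by
      rw [genLocus_pullHom i (EGA73.isInvertible_twist hirr 1), genLocus_degOneHom hirr]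
    rw [← e1, ← genLocus_comp_iso _ e.hom, ← EGA73.AmpleImmersion.genLocus_ofSection_val]
    refine congrArg (fun m => CohB1.genLocus M (Var76.Frames.ofSection M m)) ?_
    show e.hom.app ⊤ (val P1 (pullHom i (degOneHom 𝒜 (RVA57.coord A n k))) ⊤) = sec k
    refine congrArg (e.hom.app ⊤) ((val_pullHom i _ ⊤).trans (congrArg (pullS i T1 ⊤) ?_))
    exact (Var76.Frames.val_ofSection _ _ ⊤).trans (Amp73.res_self _ _)
  have hD : IsAffineOpen D := Proj.isAffineOpen_basicOpen _ _ (RVA57.coord A n k).2 one_pos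
  refine ⟨sec k, G, hGe, hk, hD.preimage i, eq_top_iff.2 fun a _ => ?_⟩
  obtain ⟨d, rfl⟩ : ∃ d, i.app D d = a := i.app_surjective D hD a
  obtain ⟨c, rfl⟩ : ∃ c, Proj.awayToSection 𝒜 (RVA57.coord A n k).1 c = d :=
    (ConcreteCategory.bijective_of_isIso
      (Proj.basicOpenIsoAway 𝒜 _ (RVA57.coord A n k).2 one_pos).hom).2 d
  have hc : c ∈ Algebra.adjoin (𝒜 0) (Set.range (RVA57.ratio A n k)) := RVA57.adjoin_ratio A n k ▸ trivial
  induction hc using Algebra.adjoin_induction with
  | mem c hc =>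
    obtain ⟨j, rfl⟩ := hc
    refine Subring.subset_closure (Or.inr ⟨sec j, ?_⟩)
    have h1 := congrArg (fun s => e.hom.app G (pullS i T1 D s))
      (Var76.ProjFrame.away_smul_frame 𝒜 (RVA57.coord A n k) (RVA57.coord A n j))
    have hres : ∀ l, e.hom.app G (pullS i T1 D (res T1 le_top (Var76.ProjFrame.sect 𝒜 (RVA57.coord A n l)))) =
        res M (le_top : G ≤ ⊤) (sec l) := fun l => by
      rw [← res_pullS]
      exact Mero90.app_res _ _ _
    simp only [pullS_smul, Scheme.Modules.Hom.app_smul] at h1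
    rw [hres, hres] at h1
    exact h1
  | algebraMap w =>
    obtain ⟨r, rfl⟩ : ∃ r, algebraMap A (𝒜 0) r = w := by
      refine ⟨MvPolynomial.coeff 0 w.1, Subtype.ext ?_⟩
      have hz : w.1.totalDegree = 0 := Nat.le_zero.1 (MvPolynomial.IsHomogeneous.totalDegree_le w.2)
      exact (MvPolynomial.totalDegree_eq_zero_iff_eq_C.1 hz).symm
    refine Subring.subset_closure (Or.inl ⟨(Scheme.ΓSpecIso (CommRingCat.of A)).inv r, ?_⟩)
    have hcongr : ∀ (φ φ' : X ⟶ Spec (CommRingCat.of A)) (_ : φ = φ') (x : Γ(Spec (CommRingCat.of A), ⊤)),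
        φ.appLE ⊤ G le_top x = φ'.appLE ⊤ G le_top x := fun φ φ' h x => by rw [h]
    refine (hcongr _ _ hiπ.symm _).trans
      ((ConcreteCategory.congr_hom (Scheme.Hom.appLE_comp_appLE i (CohB1.ProjSpace.toSpec n A) ⊤ D G le_top le_rfl)
        ((Scheme.ΓSpecIso (CommRingCat.of A)).inv r)).symm.trans ?_)
    show i.appLE D G le_rfl _ = _
    refine (congrArg (i.appLE D G le_rfl) (RVA57.appLE_toSpec A n _ (RVA57.coord A n k).2 r le_top)).trans ?_
    rw [← Scheme.Hom.app_eq_appLE]
    rfl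
  | add c d _ _ hc hd => rw [map_add, map_add]; exact add_mem (hc trivial) (hd trivial)
  | mul c d _ _ hc hd => rw [map_mul, map_mul]; exact mul_mem (hc trivial) (hd trivial)

end Groth.Agent.Curves2.RelVA
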