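import Groth.Agent.Curves2.RelVA.Generators
import Groth.Agent.QCRes72.Basic

/-!
Direct images of invertible modules without first cohomology on fibres are of finite type
-/

set_option autoImplicit false
set_option linter.style.haveILetI false
set_option maxSynthPendingDepth 6
set_option synthInstance.maxHeartbeats 200000
set_option backward.isDefEq.respectTransparency.types false

universe u

noncomputable section

open CategoryTheory CategoryTheory.Limits AlgebraicGeometry TopologicalSpace Opposite

namespace Groth.Agent.Curves2.RelVA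

variable {X S : Scheme.{u}} (f : X ⟶ S) [IsProper f] [LocallyOfFinitePresentation f] [Flat f]

theorem finite_sections_pushforward (L : X.Modules) (hL : PicF.IsInvertible L)
    (h1 : ∀ s : S, Subsingleton (CohIII.fiberH f L s 1)) {V : S.Opens} (hV : IsAffineOpen V) :
    Module.Finite Γ(S, V) Γ((Scheme.Modules.pushforward f).obj L, V) := by
  classical
  haveI : L.IsQuasicoherent := Mero90.isQCoh_of_isInvertible hL
  obtain ⟨M⟩ := Mum71.exists_cohModel f L (Cube73.isFP_of_isInvertible hL)
    (Cube73.isFlatOver_of_isInvertible f hL) hV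
  let e := (M.K.d ((0 : ℕ) : ℤ) (((0 : ℕ) : ℤ) + 1)).hom
  let T : Set Γ(S, V) := {a | Mum71.Split.SplitsAt e a}
  have hT : Ideal.span T = ⊤ := by
    refine hV.iSup_basicOpen_eq_self_iff.1 (le_antisymm (iSup_le fun a => S.basicOpen_le _) fun s hs => ?_)
    obtain ⟨a, hsa, ha⟩ := Mum71.exists_vanishAt hV M 1 hs (h1 s)
    exact Opens.mem_iSup.2 ⟨⟨a, Mum71.splitsAt_d_congr M (by omega) (by omega) ha.2.1⟩, hsa⟩
  haveI := M.finite ((0 : ℕ) : ℤ)
  haveI := fg_ker_of_splitsAt e T hT fun a ha => ha
  exact Module.Finite.of_surjective (Mum71.secZero M) (Mum71.secZero_surjective M)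

theorem isFT_pushforward (L : X.Modules) (hL : PicF.IsInvertible L)
    (h1 : ∀ s : S, Subsingleton (CohIII.fiberH f L s 1)) :
    CohB1.IsFT ((Scheme.Modules.pushforward f).obj L) := by
  haveI : L.IsQuasicoherent := Mero90.isQCoh_of_isInvertible hL
  haveI := QCqs72.isQuasicoherent_pushforward L f
  exact QC70.isFiniteType_of_finite_sections _ (fun W : S.affineOpens => W.1) (iSup_affineOpens_eq_top S)
    (fun W => W.2) fun W => finite_sections_pushforward f L hL h1 W.2

end Groth.Agent.Curves2.RelVA
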