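import Groth.Agent.Curves2.RelVA.FibreSections

/-!
Finitely many sections spanning all fibres without first cohomology
-/

set_option autoImplicit false
set_option linter.style.haveILetI false
set_option maxSynthPendingDepth 6
set_option synthInstance.maxHeartbeats 200000
set_option backward.isDefEq.respectTransparency.types false

universe u

noncomputable section

open CategoryTheory CategoryTheory.Limits AlgebraicGeometry TopologicalSpace Opposite

namespace Groth.Agent.Curves2.RelVA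

theorem fg_ker_of_splitsAt {A P Q : Type u} [CommRing A] [AddCommGroup P] [Module A P] [AddCommGroup Q]
    [Module A Q] [Module.Finite A P] (e : P →ₗ[A] Q) (T : Set A) (hT : Ideal.span T = ⊤)
    (h : ∀ a ∈ T, Mum71.Split.SplitsAt e a) : Module.Finite A (LinearMap.ker e) := by
  classical
  obtain ⟨T₀, hsub, hspan⟩ := Submodule.mem_span_finite_of_mem_span ((Ideal.eq_top_iff_one _).1 hT)
  choose σ hσ using fun a : T₀ => h a.1 (hsub a.2)
  let π : T₀ → (P →ₗ[A] LinearMap.ker e) := fun a =>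
    ((a.1 • LinearMap.id : P →ₗ[A] P) - σ a ∘ₗ e).codRestrict _ fun p => by
      rw [LinearMap.mem_ker, LinearMap.sub_apply, map_sub, LinearMap.smul_apply, LinearMap.id_apply, map_smul,
        LinearMap.comp_apply, sub_eq_zero]
      exact (LinearMap.congr_fun (hσ a) p).symm
  let Φ : (T₀ → P) →ₗ[A] LinearMap.ker e := LinearMap.lsum A (fun _ => P) A π
  refine Module.Finite.of_surjective Φ fun z => ?_
  obtain ⟨c, -, hc⟩ := Submodule.mem_span_finset.1 hspan
  refine ⟨fun a => c a.1 • z.1, Subtype.ext ?_⟩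
  have hπ : ∀ a : T₀, (π a (c a.1 • z.1)).1 = (c a.1 * a.1) • z.1 := fun a => by
    show a.1 • (c a.1 • z.1) - σ a (e (c a.1 • z.1)) = _
    rw [map_smul, LinearMap.mem_ker.1 z.2, smul_zero, map_zero, sub_zero, smul_smul, mul_comm]
  simp only [Φ, LinearMap.lsum_apply, LinearMap.coe_sum, Finset.sum_apply, LinearMap.comp_apply,
    LinearMap.proj_apply, AddSubmonoidClass.coe_finset_sum, hπ, ← Finset.sum_smul]
  rw [Finset.sum_coe_sort T₀ (fun a => c a * a)]
  simp only [smul_eq_mul] at hc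
  rw [hc, one_smul]

variable {X S : Scheme.{u}} (f : X ⟶ S) [IsProper f] [LocallyOfFinitePresentation f] [Flat f]

/-- Over an affine base, sections are finitely generated when the fibres have no first cohomology. -/
theorem exists_generators [IsAffine S] (L : X.Modules) (hL : PicF.IsInvertible L)
    (h1 : ∀ s : S, Subsingleton (CohIII.fiberH f L s 1)) :
    ∃ (n : ℕ) (u : Fin (n + 1) → Γ(L, f ⁻¹ᵁ ⊤)), ∀ m : Γ(L, f ⁻¹ᵁ ⊤),
      ∃ c : Fin (n + 1) → Γ(S, ⊤), m = ∑ j, f.app ⊤ (c j) • u j := by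
  classical
  haveI : L.IsQuasicoherent := Mero90.isQCoh_of_isInvertible hL
  have hV := isAffineOpen_top S
  obtain ⟨M⟩ := Mum71.exists_cohModel f L (Cube73.isFP_of_isInvertible hL)
    (Cube73.isFlatOver_of_isInvertible f hL) hV
  let e := (M.K.d ((0 : ℕ) : ℤ) (((0 : ℕ) : ℤ) + 1)).hom
  let T : Set Γ(S, ⊤) := {a | Mum71.Split.SplitsAt e a}
  have hT : Ideal.span T = ⊤ := by
    refine hV.iSup_basicOpen_eq_self_iff.1 (top_le_iff.1 fun s _ => ?_)
    obtain ⟨a, hsa, ha⟩ := Mum71.exists_vanishAt hV M 1 (show s ∈ (⊤ : S.Opens) from trivial) (h1 s)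
    exact Opens.mem_iSup.2 ⟨⟨a, Mum71.splitsAt_d_congr M (by omega) (by omega) ha.2.1⟩, hsa⟩
  haveI := M.finite ((0 : ℕ) : ℤ)
  haveI := fg_ker_of_splitsAt e T hT fun a ha => ha
  haveI : Module.Finite Γ(S, ⊤) Γ((Scheme.Modules.pushforward f).obj L, ⊤) :=
    Module.Finite.of_surjective (Mum71.secZero M) (Mum71.secZero_surjective M)
  obtain ⟨n, v, hv⟩ := Module.Finite.exists_fin (R := Γ(S, ⊤)) (M := Γ((Scheme.Modules.pushforward f).obj L, ⊤))
  let u : Fin (n + 1) → Γ((Scheme.Modules.pushforward f).obj L, ⊤) := Fin.cons 0 v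
  refine ⟨n, u, fun m => ?_⟩
  let m' : Γ((Scheme.Modules.pushforward f).obj L, ⊤) := m
  have hm : m' ∈ Submodule.span Γ(S, ⊤) (Set.range v) := hv ▸ Submodule.mem_top
  obtain ⟨c, hc⟩ := (Submodule.mem_span_range_iff_exists_fun _).1 hm
  refine ⟨Fin.cons 0 c, ?_⟩
  have h0 : (∑ j, (Fin.cons 0 c : Fin (n + 1) → Γ(S, ⊤)) j • u j : Γ((Scheme.Modules.pushforward f).obj L, ⊤)) = m' := by
    rw [Fin.sum_univ_succ]
    simp only [u, Fin.cons_zero, Fin.cons_succ, zero_smul, zero_add]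
    exact hc
  exact h0.symm

/-- Every section on a fibre is a combination of generators. -/
theorem exists_combination [IsAffine S] (L : X.Modules) (hL : PicF.IsInvertible L) {n : ℕ}
    (u : Fin (n + 1) → Γ(L, f ⁻¹ᵁ ⊤))
    (hu : ∀ m : Γ(L, f ⁻¹ᵁ ⊤), ∃ c : Fin (n + 1) → Γ(S, ⊤), m = ∑ j, f.app ⊤ (c j) • u j)
    (s : S) (h1 : Subsingleton (CohIII.fiberH f L s 1))
    (t : Γ((Scheme.Modules.pullback (f.fiberι s)).obj L, ⊤)) :
    ∃ c : Fin (n + 1) → Γ(Spec (S.residueField s), ⊤), t = ∑ j,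
      (f.fiberToSpecResidueField s).appLE ⊤ ⊤ le_top (c j) • toFibre f L (V := ⊤) trivial (u j) := by
  let g := S.fromSpecResidueField s
  let f' := f.fiberToSpecResidueField s
  let ι := f.fiberι s
  have key := mem_closure_toFibre f L hL s (isAffineOpen_top S) (show s ∈ (⊤ : S.Opens) from trivial) h1 t
  induction key using AddSubgroup.closure_induction with
  | mem x hx =>
    obtain ⟨a, m, rfl⟩ := hx
    obtain ⟨c, rfl⟩ := hu m
    refine ⟨fun j => a * g.appLE ⊤ ⊤ le_top (c j), ?_⟩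
    have hsum : toFibre f L (s := s) (V := ⊤) trivial (∑ j, f.app ⊤ (c j) • u j) =
        ∑ j, toFibre f L (s := s) (V := ⊤) trivial (f.app ⊤ (c j) • u j) := by
      let ψ : Γ(L, f ⁻¹ᵁ ⊤) →+ Γ((Scheme.Modules.pullback ι).obj L, ⊤) :=
        AddMonoidHom.mk' (toFibre f L (s := s) (V := ⊤) trivial) fun x y => by
          refine (congrArg _ (map_add (((Scheme.Modules.pullbackPushforwardAdjunction ι).unit.app L).app
            (f ⁻¹ᵁ ⊤)).hom x y)).trans ?_
          exact map_add _ _ _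
      exact map_sum ψ _ _
    rw [hsum, Finset.smul_sum]
    refine Finset.sum_congr rfl fun j _ => ?_
    have h2 : ι.appLE (f ⁻¹ᵁ ⊤) ⊤ le_top (f.app ⊤ (c j)) = f'.appLE ⊤ ⊤ le_top (g.appLE ⊤ ⊤ le_top (c j)) := by
      have hcongr : ∀ (φ φ' : f.fiber s ⟶ S) (_ : φ = φ'),
          φ.appLE ⊤ ⊤ le_top (c j) = φ'.appLE ⊤ ⊤ le_top (c j) := fun φ φ' h => by rw [h]
      rw [Scheme.Hom.app_eq_appLE]
      refine (ConcreteCategory.congr_hom (Scheme.Hom.appLE_comp_appLE ι f ⊤ (f ⁻¹ᵁ ⊤) ⊤ le_rfl le_top) (c j)).trans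
        ((hcongr _ _ (f.fiber_fac s)).trans ?_)
      exact (ConcreteCategory.congr_hom (Scheme.Hom.appLE_comp_appLE f' g ⊤ ⊤ ⊤ le_top le_top) (c j)).symm
    rw [map_mul, mul_smul]
    refine congrArg _ ?_
    rw [← h2]
    show QC70.res _ _ (Amp73.pullS ι L (f ⁻¹ᵁ ⊤) (f.app ⊤ (c j) • u j)) = _
    rw [Amp73.pullS_smul]
    exact QC70.res_smul _ _ _
  | zero => exact ⟨0, by simp⟩
  | add x y _ _ hx hy =>
    obtain ⟨c, rfl⟩ := hx
    obtain ⟨d, rfl⟩ := hy
    exact ⟨c + d, by simp [map_add, add_smul, Finset.sum_add_distrib]⟩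
  | neg x _ hx =>
    obtain ⟨c, rfl⟩ := hx
    exact ⟨-c, by simp [map_neg, neg_smul, Finset.sum_neg_distrib]⟩

end Groth.Agent.Curves2.RelVA
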