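import Groth.Agent.Curves2.RelVA.FinitePush
import Groth.Agent.Mum71.BcRows
import Groth.Agent.Mum71.BcZero
import Groth.Agent.Mum71.BcRank
import Groth.Agent.Crv77.Sections
import Groth.Agent.FinCov99.Cover

/-!
The rank of a direct image without first cohomology on the fibres
-/

set_option autoImplicit false
set_option linter.style.haveILetI false
set_option maxSynthPendingDepth 6
set_option synthInstance.maxHeartbeats 200000
set_option backward.isDefEq.respectTransparency.types false

universe u

noncomputable section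

open CategoryTheory CategoryTheory.Limits AlgebraicGeometry TopologicalSpace Opposite TensorProduct

namespace Groth.Agent.Curves2.RelVA

/-- Ranks along a bijective change of rings. -/
theorem finrank_eq_of_bijective {R R' M M' : Type*} [CommRing R] [CommRing R'] [AddCommGroup M] [Module R M]
    [AddCommGroup M'] [Module R' M'] (i : R → R') (j : M ≃+ M') (hi : Function.Bijective i)
    (hc : ∀ r m, j (r • m) = i r • j m) : Module.finrank R M = Module.finrank R' M' := by
  have h := congrArg Cardinal.toNat (lift_rank_eq_of_equiv_equiv i j hi hc)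
  rwa [Cardinal.toNat_lift, Cardinal.toNat_lift] at h

variable {X S : Scheme.{u}} (f : X ⟶ S) [IsProper f] [LocallyOfFinitePresentation f] [Flat f]
  (F : X.Modules) [F.IsQuasicoherent]

/-- A free direct image commuting with the passage to a fibre has the rank of that fibre. -/
theorem fiberRank_eq_of_free (t : S)
    (hiso : IsIso (CohBC.bc0 f (S.fromSpecResidueField t) (f.fiberToSpecResidueField t) (f.fiberι t)
      (f.fiber_fac t) F))
    {U : S.Opens} (htU : t ∈ U) {n : ℕ}
    (e : ((Scheme.Modules.pushforward f).obj F).restrict U.ι ≅ FlatMod.freeMod (↑U : Scheme.{u}) n) :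
    CohIII.fiberRank f F 0 t = n := by
  obtain ⟨V, hV, htV, hVU⟩ := exists_isAffineOpen_mem_and_subset (X := S) (x := t) (U := U) htU
  let N := (Scheme.Modules.pushforward f).obj F
  haveI : N.IsQuasicoherent := QCqs72.isQuasicoherent_pushforward F f
  obtain ⟨b, -⟩ := FinCov99.exists_basis_sections N e (V := V) hVU
  let g := S.fromSpecResidueField t
  let f' := f.fiberToSpecResidueField t
  have hVV' : (⊤ : (Spec (S.residueField t)).Opens) ≤ g ⁻¹ᵁ V := fun z _ => by
    show g z ∈ V
    rwa [show g z = t from Scheme.fromSpecResidueField_apply t z]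
  letI := (g.appLE V ⊤ hVV').hom.toAlgebra
  obtain ⟨eB, -⟩ := LimTop61.exists_baseChange_equiv g N hV (isAffineOpen_top _) (e := hVV')
  have hB : Nontrivial Γ(Spec (S.residueField t), ⊤) :=
    (Scheme.ΓSpecIso (S.residueField t)).commRingCatIsoToRingEquiv.symm.injective.nontrivial
  haveI : Nontrivial Γ(S, V) := (algebraMap Γ(S, V) Γ(Spec (S.residueField t), ⊤)).domain_nontrivial
  haveI : Module.Free Γ(S, V) Γ(N, V) := Module.Free.of_basis b
  have h1 : Module.finrank Γ(Spec (S.residueField t), ⊤) Γ((Scheme.Modules.pullback g).obj N, ⊤) = n := by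
    rw [eB.finrank_eq, Module.finrank_baseChange, Module.finrank_eq_card_basis b, Fintype.card_fin]
  let G := CohIII.fiberMod f F t
  let β : Γ((Scheme.Modules.pullback g).obj N, ⊤) ≃+ Γ((Scheme.Modules.pushforward f').obj G, ⊤) :=
    AddEquiv.ofBijective ((CohBC.bc0 f g f' (f.fiberι t) (f.fiber_fac t) F).app ⊤).hom
      (ConcreteCategory.bijective_of_isIso ((CohBC.bc0 f g f' (f.fiberι t) (f.fiber_fac t) F).app ⊤))
  have h2 : Module.finrank Γ(Spec (S.residueField t), ⊤) Γ((Scheme.Modules.pushforward f').obj G, ⊤) = n :=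
    (finrank_eq_of_bijective id β Function.bijective_id fun r m => Scheme.Modules.Hom.app_smul (CohBC.bc0 f g f' (f.fiberι t) (f.fiber_fac t) F) r m).symm.trans h1
  rw [← h2]
  letI : (f.fiber t).Over (Spec (CommRingCat.of (S.residueField t))) := ⟨f.fiberToSpecResidueField t⟩
  refine finrank_eq_of_bijective (fun r => (Scheme.ΓSpecIso (S.residueField t)).inv r) (Crv77.sec G)
    (ConcreteCategory.bijective_of_isIso (Scheme.ΓSpecIso (S.residueField t)).inv) fun r x => ?_
  refine (Crv77.sec_smul (A := S.residueField t) G r x).trans ?_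
  rfl


/-- Without first cohomology on the fibres the direct image is locally free of the rank of the fibres. -/
theorem isFinLocFreeOfRank_pushforward (hfp : CohB1.IsFP F) (hfl : FlatMod.IsFlatOver f F)
    (h1 : ∀ s : S, Subsingleton (CohIII.fiberH f F s 1)) (r : ℕ) (hr : ∀ s : S, CohIII.fiberRank f F 0 s = r) :
    FlatMod.IsFinLocFreeOfRank r ((Scheme.Modules.pushforward f).obj F) := by
  intro t
  obtain ⟨V, hV, htV, -⟩ := exists_isAffineOpen_mem_and_subset (X := S) (x := t) (U := ⊤) trivial
  obtain ⟨M⟩ := Mum71.exists_cohModel f F hfp hfl hV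
  obtain ⟨a, hta, ha⟩ := Mum71.exists_vanishAt hV M 1 htV (h1 t)
  have ha' : Mum71.Split.SplitsAt (M.K.d ((0 : ℕ) : ℤ) (((0 : ℕ) : ℤ) + 1)).hom a :=
    Mum71.splitsAt_d_congr M (by omega) (by omega) ha.2.1
  obtain ⟨b, htb, hb⟩ := Mum71.exists_splitsAt_neg_one M (S.basicOpen_le a hta)
  obtain ⟨U, n, htU, ⟨e⟩⟩ := Mum71.exists_free_push_nhd hV M ha' hb hta htb
  have hiso := Mum71.isIso_bc0_of_good f F (f.fiberι t) (f.fiberToSpecResidueField t) (S.fromSpecResidueField t)
    (IsPullback.of_hasPullback _ _) fun z => by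
      rw [show S.fromSpecResidueField t z = t from Scheme.fromSpecResidueField_apply t z]
      exact Mum71.good_of_splitsAt hV M hta ha'
  obtain rfl : n = r := (fiberRank_eq_of_free f F t hiso htU e).symm.trans (hr t)
  exact ⟨U, htU, ⟨e⟩⟩

/-- Base change in degree zero without first cohomology on the fibres. -/
theorem isIso_bc0_of_h1 (hfp : CohB1.IsFP F) (hfl : FlatMod.IsFlatOver f F)
    (h1 : ∀ s : S, Subsingleton (CohIII.fiberH f F s 1)) {X' S' : Scheme.{u}} (g' : X' ⟶ X) (f' : X' ⟶ S')
    (g : S' ⟶ S) (hX : IsPullback g' f' f g) : IsIso (CohBC.bc0 f g f' g' hX.w F) := by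
  refine Mum71.isIso_bc0_of_good f F g' f' g hX fun z => ?_
  obtain ⟨V, hV, hzV, -⟩ := exists_isAffineOpen_mem_and_subset (X := S) (x := g z) (U := ⊤) trivial
  obtain ⟨M⟩ := Mum71.exists_cohModel f F hfp hfl hV
  obtain ⟨a, hza, ha⟩ := Mum71.exists_vanishAt hV M 1 hzV (h1 (g z))
  exact Mum71.good_of_splitsAt hV M hza (Mum71.splitsAt_d_congr M (by omega) (by omega) ha.2.1)

/-- Higher direct images vanish with the cohomology of the fibres. -/
theorem isZero_rpush [HasInjectiveResolutions X.Modules] (hfp : CohB1.IsFP F) (hfl : FlatMod.IsFlatOver f F)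
    (p : ℕ) (hp : ∀ s : S, Subsingleton (CohIII.fiberH f F s p)) : IsZero ((Coh.Rpush f p).obj F) :=
  Mum71.isZero_of_nhds _ fun t => by
    obtain ⟨V, hV, htV, -⟩ := exists_isAffineOpen_mem_and_subset (X := S) (x := t) (U := ⊤) trivial
    obtain ⟨M⟩ := Mum71.exists_cohModel f F hfp hfl hV
    obtain ⟨a, hta, ha⟩ := Mum71.exists_vanishAt hV M p htV (hp t)
    exact ⟨S.basicOpen a, hta, Mum71.isZero_rpush_restrict hV M ha⟩

end Groth.Agent.Curves2.RelVA
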