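import Groth.Agent.Curves2.RelVA.PushRank
import Mathlib.LinearAlgebra.TensorProduct.RightExactness

/-!
The rank of a higher direct image where the differentials of the local model split
-/

set_option autoImplicit false
set_option linter.style.haveILetI false
set_option maxSynthPendingDepth 6
set_option synthInstance.maxHeartbeats 200000
set_option backward.isDefEq.respectTransparency.types false

universe u

noncomputable section

open CategoryTheory CategoryTheory.Limits AlgebraicGeometry TopologicalSpace Opposite TensorProduct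

namespace Groth.Agent.Curves2.RelVA

open Mum71 Mum71.Split

/-- The homology after extension to a field, where the differential splits. -/
theorem finrank_homology {A : Type u} [CommRing A] {P₀ P Q : Type u} [AddCommGroup P₀] [Module A P₀]
    [AddCommGroup P] [Module A P] [AddCommGroup Q] [Module A Q] {d : P₀ →ₗ[A] P} {e : P →ₗ[A] Q}
    (hde : e ∘ₗ d = 0) (K : Type u) [Field K] [Algebra A K] {a : A} (ha : SplitsAt e a)
    (hu : IsUnit (algebraMap A K a)) {H : Type u} [AddCommGroup H] [Module K H]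
    (c : LinearMap.ker (e.baseChange K) →ₗ[K] H) (hcs : Function.Surjective c)
    (hc0 : ∀ z, c z = 0 ↔ z.1 ∈ LinearMap.range (d.baseChange K)) :
    Module.finrank K H = Module.finrank K (K ⊗[A] Hom0 d e) := by
  let d' : P₀ →ₗ[A] LinearMap.ker e := d.codRestrict (LinearMap.ker e) fun v => LinearMap.congr_fun hde v
  have hsub : (LinearMap.ker e).subtype ∘ₗ d' = d := LinearMap.ext fun _ => rfl
  let j : K ⊗[A] LinearMap.ker e →ₗ[K] LinearMap.ker (e.baseChange K) :=
    ((LinearMap.ker e).subtype.baseChange K).codRestrict _ fun ξ => by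
      rw [LinearMap.mem_ker, ← LinearMap.comp_apply, ← LinearMap.baseChange_comp,
        show e ∘ₗ (LinearMap.ker e).subtype = 0 from LinearMap.ext fun v => v.2, LinearMap.baseChange_zero,
        LinearMap.zero_apply]
  let φ : K ⊗[A] LinearMap.ker e →ₗ[K] H := c ∘ₗ j
  have hφ : Function.Surjective φ := hcs.comp fun z => by
    obtain ⟨ξ, hξ⟩ := mem_range_of_splitsAt K ha hu z.1 z.2
    exact ⟨ξ, Subtype.ext hξ⟩
  let π : K ⊗[A] LinearMap.ker e →ₗ[K] K ⊗[A] Hom0 d e :=
    ((LinearMap.range d).submoduleOf (LinearMap.ker e)).mkQ.baseChange K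
  have hπs : Function.Surjective π := LinearMap.lTensor_surjective K (Submodule.mkQ_surjective _)
  have hex : Function.Exact d' ((LinearMap.range d).submoduleOf (LinearMap.ker e)).mkQ := by
    intro z
    rw [Submodule.mkQ_apply, Submodule.Quotient.mk_eq_zero]
    exact ⟨fun ⟨v, hv⟩ => ⟨v, Subtype.ext hv⟩, fun ⟨v, hv⟩ => ⟨v, congrArg Subtype.val hv⟩⟩
  have hπ : LinearMap.ker φ = LinearMap.ker π := by
    ext ξ
    have h2 := lTensor_exact K hex (Submodule.mkQ_surjective _) ξ
    show φ ξ = 0 ↔ ((LinearMap.range d).submoduleOf (LinearMap.ker e)).mkQ.lTensor K ξ = 0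
    rw [show φ ξ = c (j ξ) from rfl, hc0, h2]
    refine ⟨fun h => mem_range_codRestrict_of_splitsAt hde K ha hu ξ h, ?_⟩
    rintro ⟨η, hη⟩
    refine ⟨η, ?_⟩
    show d.baseChange K η = (LinearMap.ker e).subtype.baseChange K ξ
    rw [← hη]
    show d.baseChange K η = (LinearMap.ker e).subtype.baseChange K (d'.baseChange K η)
    rw [← LinearMap.comp_apply, ← LinearMap.baseChange_comp, hsub]
  rw [← (φ.quotKerEquivOfSurjective hφ).finrank_eq, ← (π.quotKerEquivOfSurjective hπs).finrank_eq, hπ]

variable {X S : Scheme.{u}} {f : X ⟶ S} [HasInjectiveResolutions X.Modules] [QuasiCompact f] [QuasiSeparated f]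
  {F : X.Modules} [F.IsQuasicoherent] {V : S.Opens} (hV : IsAffineOpen V) (M : CohModel f F V)

include hV in
/-- Where both differentials split the higher direct image is free of the rank of the fibre. -/
theorem exists_free_rpush_rank {p : ℕ} {a b : Γ(S, V)} (ha : SplitsAt (M.K.d (p : ℤ) ((p : ℤ) + 1)).hom a)
    (hb : SplitsAt (M.K.d ((p : ℤ) - 1) (p : ℤ)).hom b) {t : S} (hta : t ∈ S.basicOpen a) (htb : t ∈ S.basicOpen b) :
    ∃ U : S.Opens, t ∈ U ∧ Nonempty (((Coh.Rpush f p).obj F).restrict U.ι ≅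
      FlatMod.freeMod (↑U : Scheme.{u}) (CohIII.fiberRank f F p t)) := by
  obtain ⟨U, n, htU, ⟨i⟩⟩ := exists_free_rpush_nhd hV M ha hb hta htb
  suffices h : CohIII.fiberRank f F p t = n by
    rw [h]
    exact ⟨U, htU, ⟨i⟩⟩
  haveI := Coh69.isQuasicoherent_rpush f F p
  have htV : t ∈ V := S.basicOpen_le a hta
  obtain ⟨c, hc, htc⟩ := hV.exists_basicOpen_le (V := U) ⟨t, htU⟩ htV
  obtain ⟨u, hu, hu0⟩ := exists_secLin hV M p
  letI algB : Algebra Γ(S, V) Γ(S, S.basicOpen c) :=
    (S.presheaf.map (homOfLE (S.basicOpen_le c)).op).hom.toAlgebra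
  obtain ⟨ψ⟩ := exists_quotient_equiv hV ((Coh.Rpush f p).obj F) u hu hu0 c
  obtain ⟨bs, -⟩ := FinCov99.exists_basis_sections ((Coh.Rpush f p).obj F) i (V := S.basicOpen c) hc
  let bB := bs.map ψ.symm
  letI algK : Algebra Γ(S, V) (S.residueField t) := (S.evaluation V t htV).hom.toAlgebra
  letI algBK : Algebra Γ(S, S.basicOpen c) (S.residueField t) :=
    (S.evaluation (S.basicOpen c) t htc).hom.toAlgebra
  haveI : IsScalarTower Γ(S, V) Γ(S, S.basicOpen c) (S.residueField t) :=
    IsScalarTower.of_algebraMap_eq fun x => (congrArg (IsLocalRing.residue (S.presheaf.stalk t))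
      (TopCat.Presheaf.germ_res_apply S.presheaf (homOfLE (S.basicOpen_le c)) t htc x)).symm
  obtain ⟨cc, hcs, hc0, hc1⟩ := M.fibre t htV p
  let cL : LinearMap.ker ((M.K.d (p : ℤ) ((p : ℤ) + 1)).hom.baseChange (S.residueField t)) →ₗ[S.residueField t]
      CohIII.fiberH f F t p :=
    { cc with map_smul' := hc1 }
  show Module.finrank (S.residueField t) (CohIII.fiberH f F t p) = n
  rw [finrank_homology (d_comp M _ _ _) (S.residueField t) ha
    (Ne.isUnit ((S.evaluation_ne_zero_iff_mem_basicOpen t htV a).2 hta)) cL hcs hc0]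
  let bK := (Algebra.TensorProduct.basis (S.residueField t) bB).map
    (AlgebraTensorModule.cancelBaseChange Γ(S, V) Γ(S, S.basicOpen c) (S.residueField t) (S.residueField t) _)
  rw [Module.finrank_eq_card_basis bK, Fintype.card_fin]

end Groth.Agent.Curves2.RelVA
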