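import Groth.Agent.Curves2.RelVA.RpushRank
import Groth.Agent.Curves2.RelVA.FamilyDeg
import Groth.Agent.Mum71.BcFibre

/-!
Base change of the constants to a fibre
-/

set_option autoImplicit false
set_option linter.style.haveILetI false
set_option maxSynthPendingDepth 6
set_option synthInstance.maxHeartbeats 200000
set_option backward.isDefEq.respectTransparency.types false

universe u

noncomputable section

open CategoryTheory CategoryTheory.Limits AlgebraicGeometry TopologicalSpace Opposite

namespace Groth.Agent.Curves2.RelVA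

variable {X S : Scheme.{u}} (f : X ⟶ S)

/-- If the functions on a fibre are constants, base change of the direct image of functions is surjective. -/
theorem epi_bc0_structure (s : S)
    (hconst : Function.Surjective (f.fiberToSpecResidueField s).appTop) :
    Epi (CohBC.bc0 f (S.fromSpecResidueField s) (f.fiberToSpecResidueField s) (f.fiberι s) (f.fiber_fac s)
      (Coh.structureModule X)) := by
  haveI : Subsingleton (Spec (S.residueField s)) := inferInstanceAs (Subsingleton (PrimeSpectrum _))
  rw [Mum71.app_top_surjective_iff]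
  let g := S.fromSpecResidueField s
  let f' := f.fiberToSpecResidueField s
  let ι := f.fiberι s
  let O := Coh.structureModule X
  let R := (Scheme.Modules.pushforward f).obj O
  let G := (Scheme.Modules.pullback ι).obj O
  let bc := CohBC.bc0 f g f' ι (f.fiber_fac s) O
  let one : Γ(O, f ⁻¹ᵁ ⊤) := (1 : Γ(X, f ⁻¹ᵁ ⊤))
  have hVV' : (⊤ : (Spec (S.residueField s)).Opens) ≤ g ⁻¹ᵁ ⊤ := fun _ _ => trivial
  have hone : bc.app ⊤ (QCPull72.unitSec g R hVV' one) = toFibre f O (s := s) (V := ⊤) trivial one := by
    rw [QCPull72.unitSec, QC70.app_res]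
    have h1 : (Scheme.Modules.pullbackPushforwardAdjunction g).unit.app R ≫
        (Scheme.Modules.pushforward g).map bc = CohBC.bc0Adj f g f' ι (f.fiber_fac s) O :=
      ((Scheme.Modules.pullbackPushforwardAdjunction g).homEquiv_unit _ _ _).symm.trans
        (Equiv.apply_symm_apply _ _)
    refine (congrArg (QC70.res _ hVV') ((congr(Scheme.Modules.Hom.app $h1 ⊤ one)).trans
      (Mum71.bc0Adj_app ι f' g (f.fiber_fac s) one))).trans ?_
    show QC70.res G _ (QC70.res G _ _) = QC70.res G _ _
    exact QC70.res_res _ _ _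
  have hinv : (PicLoc.pullbackStructureIso ι).hom.app ⊤ (pull f O s one) =
      ((1 : Γ(f.fiber s, ⊤)) : Γ(Coh.structureModule (f.fiber s), ⊤)) :=
    Amp73.pullbackStructureIso_pullS ι ⊤
  intro t
  let y : Γ(f.fiber s, ⊤) := (PicLoc.pullbackStructureIso ι).hom.app ⊤ (t : Γ(G, ⊤))
  obtain ⟨c, hc⟩ := hconst y
  refine ⟨c • QCPull72.unitSec g R hVV' one, ?_⟩
  refine (Scheme.Modules.Hom.app_smul bc c _).trans ?_
  rw [hone, toFibre_eq f O s one]
  refine (ConcreteCategory.bijective_of_isIso ((PicLoc.pullbackStructureIso ι).hom.app ⊤)).1 ?_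
  refine (Scheme.Modules.Hom.app_smul (PicLoc.pullbackStructureIso ι).hom (f'.app ⊤ c) _).trans ?_
  refine (congrArg (fun w : Γ(Coh.structureModule (f.fiber s), ⊤) => (show Γ(f.fiber s, ⊤) from f'.app ⊤ c) • w) hinv).trans ?_
  exact (mul_one (f'.app ⊤ c : Γ(f.fiber s, ⊤))).trans hc

/-- A field is all of the functions when these are one-dimensional. -/
theorem appTop_surjective_of_finrank {k : Type u} [Field k] {Y : Scheme.{u}} [Nonempty Y]
    [Y.Over (Spec (CommRingCat.of k))] (h0 : Module.finrank k (Coh.HH Y (Coh.structureModule Y) 0) = 1) :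
    Function.Surjective (Y ↘ Spec (CommRingCat.of k)).appTop := by
  intro y
  let one : Γ(Coh.structureModule Y, ⊤) := (1 : Γ(Y, ⊤))
  let x := (Crv77.sec (Coh.structureModule Y)).symm one
  have hx : x ≠ 0 := fun h => by
    have h' := congrArg (Crv77.sec (Coh.structureModule Y)) h
    rw [AddEquiv.apply_symm_apply, map_zero] at h'
    haveI : Nonempty (⊤ : Y.Opens) := ⟨⟨Classical.arbitrary Y, trivial⟩⟩
    exact one_ne_zero (α := Γ(Y, ⊤)) h'
  obtain ⟨r, hr⟩ := (finrank_eq_one_iff_of_nonzero' x hx).1 h0
    ((Crv77.sec (Coh.structureModule Y)).symm (y : Γ(Coh.structureModule Y, ⊤)))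
  refine ⟨(Scheme.ΓSpecIso (CommRingCat.of k)).inv r, ?_⟩
  have h' := congrArg (Crv77.sec (Coh.structureModule Y)) hr
  rw [Crv77.sec_smul, AddEquiv.apply_symm_apply, AddEquiv.apply_symm_apply] at h'
  exact (mul_one ((show Γ(Y, ⊤) from Coh.toGlobal (Y ↘ Spec (CommRingCat.of k)) r))).symm.trans h'

end Groth.Agent.Curves2.RelVA
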